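import Cfsg.Agent.H50.M22Outer.Engine

/-! Orbit chains of the fixed subgroups. -/

set_option autoImplicit false
set_option maxRecDepth 100000

namespace Cfsg.Agent.H50.M22Outer

/-- a level of a chain -/
def lvlS0 : Lvl := ⟨[1,0,2,1,3,2,7,3,8,7], [1,0,2,1,3,2,7,3,8,7],
  [[6,5,4,1,2,1,3,1,3,4,3,1,4,0,7,8,7,1,8,2,8,3,2,4,8,2,5,6,0,2,0,7,5,1,3,0,2,5,1,0,4,1,4,6,0,3,5,3,4,1,0,3,6,4,7,3,1,3,8,3,6,0,6,2,8,3,7,4,3,7,5,4,5,7,3,4,5,6,7,8,0,8,1,2,6,3,8,1,4,7,3,1,0,2,1,0,2,3,6,0,2,7,4,3,2,0,1,2,3,7,4,3,2,7,4,3,7,4,5,4,3,6,5,7,0,2,3,4,5,6,7,3,8,0,8,1,2,6,3,8,1,4,7,3,1,0,2,1,0,2,3,6,0,2,7,4,3,2,0,1,2,3,7,4,3,2,7,4,3,7,4,5,4,3,2,7,8,7,3,4,1,2,3,4,5,6,7,3,2,1,4,3,2,5,4,3,8,7,3,2,1,4,3,5,6,7,8],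
   [4,1,2,1,3,1,3,4,3,1,4,0,7,8,7,1,8,2,8,3,2,4,8,2,5,6,0,2,0,7,5,1,3,0,2,5,1,0,4,1,4,6,0,3,5,3,4,1,0,3,6,4,7,3,1,3,8,3,6,0,6,2,8,3,7,4,3,7,5,0,8,1,2,6,3,8,1,4,7,3,1,0,2,1,0,2,3,6,0,2,7,4,3,2,0,1,2,3,7,4,3,2,7,4,3,7,1,2,1,3,1,3,4,3,1,4,0,7,8,7,1,8,2,8,3,2,4,8,2,5,6,0,2,0,7,5,1,3,0,2,5,1,0,4,1,4,6,0,3,5,3,4,1,0,3,6,4,7,3,1,3,8,3,6,0,6,2,8,3,7,4,3,7,5,4,5,6,0,8,1,2,6,3,8,1,4,7,3,1,0,2,1,0,2,3,6,0,2,7,4,3,2,0,1,2,3,7,4,3,2,7,4,3,7,4,5,4,8,0,8,1,2,6,3,8,1,4,7,3,1,0,2,1,0,2,3,6,0,2,7,4,3,2,0,1,2,3,7,4,3,2,7,4,3,7,4,5,3,4,5,6,0,8,1,2,6,3,8,1,4,7,3,1,0,2,1,0,2,3,6,0,2,7,4,3,2,0,1,2,3,7,4,3,2,7,4,3,7,4,5,4,3,8,0,8,1,2,6,3,8,1,4,7,3,1,0,2,1,0,2,3,6,0,2,7,4,3,2,0,1,2,3,7,4,3,2,7,4,3,7,4,5,4,6,5,0,8,1,2,6,3,8,1,4,7,3,1,0,2,1,0,2,3,6,0,2,7,4,3,2,0,1,2,3,7,4,3,2,7,4,3,7,4,8,0,2,3,4,5,7,1,2,3,4,5,6,7,3,2,1,4,3,2,5,7,3,8,7]],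
  [(2609,0,0),(2355,1,0),(259,1,1),(2338,2,0),(2581,2,1),(2910,3,0),(172,3,1),(1530,4,0),(283,4,1),(1216,5,0),(678,6,0),(2070,7,0),(2161,7,1),(271,8,0),(2050,8,1),(3420,9,0),(3390,9,1),(2814,10,0),(1260,10,1),(2365,11,0),(1035,11,1),(177,12,0),(425,12,1),(743,13,0),(1704,14,0),(696,14,1),(166,15,0),(1423,15,1),(2984,16,0),(1930,16,1),(3211,17,0),(3455,17,1),(3129,18,0),(2316,18,1),(138,19,0),(3106,19,1),(1033,20,0),(48,20,1),(3298,21,0),(335,21,1),(1347,22,0),(2879,22,1),(2841,23,0),(1899,23,1),(80,24,0),(1870,24,1),(3353,25,0),(167,25,1),(3418,26,0),(1168,26,1),(3078,27,1),(2629,28,0),(1825,28,1),(3061,29,0),(2614,29,1),(22,30,0),(2074,30,1),(1223,31,0),(537,31,1),(3458,32,0),(97,33,0),(3509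,33,1),(3128,34,0),(539,35,0),(1455,36,0),(3266,37,0),(1466,37,1),(363,38,0),(3417,38,1),(54,39,0),(2831,39,1),(1910,40,0),(553,40,1),(3499,41,0),(3454,42,0),(3397,43,0),(343,44,1),(3496,45,1),(540,46,0),(1716,47,0),(2574,47,1),(3263,48,0),(3368,48,1),(2862,49,0),(1172,49,1),(2126,50,0),(1540,50,1),(131,52,1),(1357,53,0),(1927,54,1),(19,55,0),(2048,56,0),(1905,56,1),(132,57,0),(3054,57,1),(418,58,1),(2299,59,0),(3393,60,1),(3502,61,0),(2902,62,0),(3121,63,0),(1839,64,0),(51,64,1),(2611,65,0),(3331,65,1),(2948,66,0),(2701,66,1),(2663,67,0),(2878,67,1),(1625,68,0),(331,68,1),(2905,69,0),(857,69,1),(207,70,0),(3448,70,1),(3497,71,0),(3124,71,1),(2337,72,0),(344,72,1),(3299,73,0),(3123,74,0),(875,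75,0),(3198,76,0),(3308,76,1),(426,77,0),(3287,78,0),(1817,78,1),(2382,79,0),(1697,79,1),(541,80,0),(2302,80,1),(3439,81,0),(2347,81,1),(3204,82,0),(3076,83,0),(3307,83,1),(2997,84,0),(910,84,1),(2843,85,0),(2368,85,1),(111,86,1),(2364,88,0),(2916,89,0),(214,89,1),(1427,90,1),(2159,91,0),(826,91,1),(1218,92,0),(1938,92,1),(1432,93,0),(438,94,0),(3167,94,1),(3253,96,0),(107,96,1),(179,97,0),(2092,97,1),(3084,98,0),(2950,98,1),(2179,99,0),(2412,99,1),(217,100,0),(3485,101,0),(437,102,0),(1725,102,1),(596,103,0),(70,103,1),(29,104,1),(1860,105,1),(2073,106,0),(1622,106,1),(176,107,0),(460,107,1),(1311,108,0),(3122,108,1),(3259,109,0),(2659,109,1),(16,110,0),(260,110,1),(226,111,1),(1837,112,1),(2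852,113,0),(357,114,0),(2409,114,1),(75,115,0),(2590,116,1),(3358,117,1),(916,118,1),(3142,119,1),(3504,121,0),(3071,121,1),(2589,122,1),(3394,124,0),(2128,124,1),(1867,126,0),(2857,127,0),(327,127,1),(2317,128,0),(270,129,1),(3416,130,1),(224,131,0),(2900,133,1),(50,134,0),(2322,136,0),(1884,137,0),(1710,137,1),(1657,138,1),(533,139,0),(1102,140,0),(44,140,1),(3365,141,1),(208,142,1),(2630,143,1),(853,144,1),(2554,145,0),(3110,146,1),(1612,148,1),(3461,149,0),(828,151,1),(3347,152,0),(1509,152,1),(2578,155,0),(1062,157,0),(1458,157,1),(583,158,1),(43,159,0),(2103,161,0),(2858,162,1),(2601,163,0),(2924,163,1),(3107,164,0),(1165,165,1),(2407,166,0),(2848,166,1),(3303,167,1),(2616,168,0),(140,16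9,0),(1869,169,1),(165,170,0),(2413,170,1),(1654,172,0),(3366,173,0),(2610,174,0),(669,175,0),(3255,175,1),(562,176,0),(929,177,1),(3072,178,0),(209,179,1),(3087,181,1),(3262,182,1),(2895,183,1),(35,184,0),(2812,184,1),(677,185,0),(3498,186,0),(104,187,0),(2827,187,1),(2069,188,0),(2608,188,1),(1712,189,1),(66,191,1),(827,192,0),(2835,193,0),(1523,194,0),(2137,195,1),(3398,196,0),(2691,199,1),(2108,200,0),(3267,202,0),(1229,204,0),(3169,205,0),(1351,206,0),(3481,207,0),(1720,207,1),(3407,208,0),(2383,211,0),(3297,213,0),(993,213,1),(2645,215,0),(2652,217,1),(2129,218,0),(2692,219,0),(2163,220,1),(3065,224,0),(2631,225,0),(282,225,1),(2942,226,0),(1355,228,0),(2648,228,1),(873,229,0),(3389,230,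0),(2662,230,1),(1528,231,0),(2351,231,1),(3286,232,1),(3136,233,0),(1028,234,1),(3091,235,0),(17,237,0),(101,239,1),(738,240,0),(47,241,0),(1056,241,1),(2555,242,1),(3474,243,0),(1673,243,1),(3056,244,0),(347,246,1),(3475,247,0),(2396,247,1),(32,250,0),(529,251,0),(223,251,1),(1633,252,0),(3302,254,1),(2570,255,0),(3330,256,0),(27,257,0),(2147,259,0),(2823,263,0),(3134,265,0),(2840,267,0),(2369,267,1),(2615,272,1),(3367,273,1),(1525,274,0),(587,274,1),(2560,283,0),(2301,291,0),(1417,291,1),(2339,292,0),(2882,292,1),(2125,293,0),(3163,294,1),(3088,296,1),(1534,298,0),(55,299,0),(1255,299,1),(3462,301,0),(3081,302,1),(2669,305,1),(676,306,0),(3305,307,0),(2817,309,0),(1919,319,1),(3131,320,0),(3422,331,1),(3484,332,0),(3478,333,0),(274,333,1),(1841,335,0),(2433,337,1),(2743,338,0),(2899,339,0),(2142,340,0),(424,340,1),(2901,341,1),(708,346,0),(3503,350,0)]⟩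

/-- a level of a chain -/
def lvlS1 : Lvl := ⟨[1,0,2,1,3,2], [1,0,2,1,3,2],
  [[4,1,2,1,3,1,3,4,3,1,4,0,7,8,7,1,8,2,8,3,2,4,8,2,5,6,0,2,0,7,5,1,3,0,2,5,1,0,4,1,4,6,0,3,5,3,4,1,0,3,6,4,7,3,1,3,8,3,6,0,6,2,8,3,7,4,3,7,5,0,8,1,2,6,3,8,1,4,7,3,1,0,2,1,0,2,3,6,0,2,7,4,3,2,0,1,2,3,7,4,3,2,7,4,3,7,1,2,1,3,1,3,4,3,1,4,0,7,8,7,1,8,2,8,3,2,4,8,2,5,6,0,2,0,7,5,1,3,0,2,5,1,0,4,1,4,6,0,3,5,3,4,1,0,3,6,4,7,3,1,3,8,3,6,0,6,2,8,3,7,4,3,7,5,4,5,6,0,8,1,2,6,3,8,1,4,7,3,1,0,2,1,0,2,3,6,0,2,7,4,3,2,0,1,2,3,7,4,3,2,7,4,3,7,4,5,4,8,0,8,1,2,6,3,8,1,4,7,3,1,0,2,1,0,2,3,6,0,2,7,4,3,2,0,1,2,3,7,4,3,2,7,4,3,7,4,5,3,4,5,6,0,8,1,2,6,3,8,1,4,7,3,1,0,2,1,0,2,3,6,0,2,7,4,3,2,0,1,2,3,7,4,3,2,7,4,3,7,4,5,4,3,8,0,8,1,2,6,3,8,1,4,7,3,1,0,2,1,0,2,3,6,0,2,7,4,3,2,0,1,2,3,7,4,3,2,7,4,3,7,4,5,4,6,5,0,8,1,2,6,3,8,1,4,7,3,1,0,2,1,0,2,3,6,0,2,7,4,3,2,0,1,2,3,7,4,3,2,7,4,3,7,4,8,0,2,3,4,5,7,1,2,3,4,5,6,7,3,2,1,4,3,2,5,7,3,8,7],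
   [8,4,1,2,1,3,1,3,4,3,1,4,0,7,8,7,1,8,2,8,3,2,4,8,2,5,6,0,2,0,7,5,1,3,0,2,5,1,0,4,1,4,6,0,3,5,3,4,1,0,3,6,4,7,3,1,3,8,3,6,0,6,2,8,3,7,4,3,7,4,1,2,1,3,1,3,4,3,1,4,0,7,8,7,1,8,2,8,3,2,4,8,2,5,6,0,2,0,7,5,1,3,0,2,5,1,0,4,1,4,6,0,3,5,3,4,1,0,3,6,4,7,3,1,3,8,3,6,0,6,2,8,3,7,5,6,0,8,1,2,6,3,8,1,4,7,3,1,0,2,1,0,2,3,6,0,2,7,4,3,2,0,1,2,3,7,4,3,2,7,4,3,7,4,5,4,8,7,3,0,8,1,2,6,3,8,1,4,7,3,1,0,2,1,0,2,3,6,0,2,7,4,3,2,0,1,2,3,7,4,3,2,7,4,3,7,4,8,2,3,4,7,8,0,8,1,2,6,3,8,1,4,7,3,1,0,2,1,0,2,3,6,0,2,7,4,3,2,0,1,2,3,7,4,3,2,7,4,3,7,4,5,4,6,5,1,2,3,4,5,6,7,3,2,4,8,7,3,2,4,0]],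
  [(929,0,0),(347,1,0),(2179,1,1),(2843,2,0),(562,2,1),(97,3,1),(363,4,1),(3169,5,0),(3307,5,1),(1347,6,0),(3091,6,1),(331,7,0),(2128,7,1),(17,8,0),(226,8,1),(1704,9,0),(1056,9,1),(3134,11,0),(2351,12,1),(179,13,0),(2126,13,1),(1255,14,0),(104,14,1),(209,15,0),(167,16,0),(2129,16,1),(3084,17,0),(3136,18,0),(873,18,1),(3163,19,0),(3397,20,0),(3331,20,1),(111,21,0),(676,22,1),(3481,23,0),(826,23,1),(3368,25,0),(1523,25,1),(2852,26,1),(1458,27,0),(3088,28,0),(3365,28,1),(827,29,0),(274,29,1),(596,30,0),(3087,30,1),(3308,31,0),(1860,32,0),(3347,33,1),(3367,35,0),(19,36,0),(3366,36,1),(3267,38,0),(1905,38,1),(3398,42,0),(2125,44,0),(708,44,1),(1165,45,0),(3211,47,1),(1455,49,0),(22,54,0),(537,59,0)]⟩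

/-- a level of a chain -/
def lvlS2 : Lvl := ⟨[1,0,2,3,4,5,7,3,2,4,3,7], [1,0,2,3,4,5,7,3,2,4,3,7],
  [[4,1,2,1,3,1,3,4,3,1,4,0,7,8,7,1,8,2,8,3,2,4,8,2,5,6,0,2,0,7,5,1,3,0,2,5,1,0,4,1,4,6,0,3,5,3,4,1,0,3,6,4,7,3,1,3,8,3,6,0,6,2,8,3,7,4,3,7,4,1,2,1,3,1,3,4,3,1,4,0,7,8,7,1,8,2,8,3,2,4,8,2,5,6,0,2,0,7,5,1,3,0,2,5,1,0,4,1,4,6,0,3,5,3,4,1,0,3,6,4,7,3,1,3,8,3,6,0,6,2,8,3,7,4,3,7,5,0,8,1,2,6,3,8,1,4,7,3,1,0,2,1,0,2,3,6,0,2,7,4,3,2,0,1,2,3,7,4,3,2,7,4,3,7,5,6,0,8,1,2,6,3,8,1,4,7,3,1,0,2,1,0,2,3,6,0,2,7,4,3,2,0,1,2,3,7,4,3,2,7,4,3,7,4,8,3,4,5,6,0,8,1,2,6,3,8,1,4,7,3,1,0,2,1,0,2,3,6,0,2,7,4,3,2,0,1,2,3,7,4,3,2,7,4,3,7,4,5,8,7,3,4,5,0,8,1,2,6,3,8,1,4,7,3,1,0,2,1,0,2,3,6,0,2,7,4,3,2,0,1,2,3,7,4,3,2,7,4,3,7,4,5,0,2,3,4,5,6,7,3,4,5,8,7,3,0,8,1,2,6,3,8,1,4,7,3,1,0,2,1,0,2,3,6,0,2,7,4,3,2,0,1,2,3,7,4,3,2,7,4,3,7,4,5,6,1,2,3,4,5,6,7,3,2,1,4,3,2,5,8,7,3,2,1,4,3,2,5,6,7,3,4,5,8,7,3,4],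
   [0,8,1,2,6,3,8,1,4,7,3,1,0,2,1,0,2,3,6,0,2,7,4,3,2,0,1,2,3,7,4,3,2,7,4,3,7,4,5,4,1,2,1,3,1,3,4,3,1,4,0,7,8,7,1,8,2,8,3,2,4,8,2,5,6,0,2,0,7,5,1,3,0,2,5,1,0,4,1,4,6,0,3,5,3,4,1,0,3,6,4,7,3,1,3,8,3,6,0,6,2,8,3,7,4,3,7,5,4,1,2,1,3,1,3,4,3,1,4,0,7,8,7,1,8,2,8,3,2,4,8,2,5,6,0,2,0,7,5,1,3,0,2,5,1,0,4,1,4,6,0,3,5,3,4,1,0,3,6,4,7,3,1,3,8,3,6,0,6,2,8,3,7,4,3,8,0,8,1,2,6,3,8,1,4,7,3,1,0,2,1,0,2,3,6,0,2,7,4,3,2,0,1,2,3,7,4,3,2,7,4,3,7,4,3,4,5,6,7,3,8,0,8,1,2,6,3,8,1,4,7,3,1,0,2,1,0,2,3,6,0,2,7,4,3,2,0,1,2,3,7,4,3,2,7,4,3,7,4,5,8,0,8,1,2,6,3,8,1,4,7,3,1,0,2,1,0,2,3,6,0,2,7,4,3,2,0,1,2,3,7,4,3,2,7,4,3,7,4,2,3,4,5,6,7,3,8,7,0,8,1,2,6,3,8,1,4,7,3,1,0,2,1,0,2,3,6,0,2,7,4,3,2,0,1,2,3,7,4,3,2,7,4,3,7,4,5,4,3,2,7,8,0,8,1,2,6,3,8,1,4,7,3,1,0,2,1,0,2,3,6,0,2,7,4,3,2,0,1,2,3,7,4,3,2,7,4,3,7,4,1,2,3,4,5,7,3,2,4,8,7,3,2,1,4,5]],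
  [(3123,0,0),(1716,1,0),(1899,1,1),(207,2,0),(223,2,1),(1919,3,0),(270,3,1),(3298,4,0),(3299,5,0),(3358,6,0),(425,6,1),(343,7,0),(3065,7,1),(1530,8,0),(1697,8,1),(1218,9,0),(3056,9,1),(2355,10,1),(540,11,0),(1612,11,1),(2823,12,1),(3107,13,0),(176,14,1),(2147,15,0),(2814,17,0),(3287,17,1),(1825,19,1),(1423,21,1),(3124,23,0),(3204,24,0),(2108,26,0)]⟩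

/-- a level of a chain -/
def lvlS3 : Lvl := ⟨[1,0,2,3,4,5,7,3,2,4,8,7], [1,0,2,3,4,5,7,3,2,4,8,7],
  [[0,8,1,2,6,3,8,1,4,7,3,1,0,2,1,0,2,3,6,0,2,7,4,3,2,0,1,2,3,7,4,3,2,7,4,3,7,4,5,4,1,2,1,3,1,3,4,3,1,4,0,7,8,7,1,8,2,8,3,2,4,8,2,5,6,0,2,0,7,5,1,3,0,2,5,1,0,4,1,4,6,0,3,5,3,4,1,0,3,6,4,7,3,1,3,8,3,6,0,6,2,8,3,7,4,3,7,5,4,1,2,1,3,1,3,4,3,1,4,0,7,8,7,1,8,2,8,3,2,4,8,2,5,6,0,2,0,7,5,1,3,0,2,5,1,0,4,1,4,6,0,3,5,3,4,1,0,3,6,4,7,3,1,3,8,3,6,0,6,2,8,3,7,4,3,8,0,8,1,2,6,3,8,1,4,7,3,1,0,2,1,0,2,3,6,0,2,7,4,3,2,0,1,2,3,7,4,3,2,7,4,3,7,4,3,4,5,6,7,3,8,0,8,1,2,6,3,8,1,4,7,3,1,0,2,1,0,2,3,6,0,2,7,4,3,2,0,1,2,3,7,4,3,2,7,4,3,7,4,5,8,0,8,1,2,6,3,8,1,4,7,3,1,0,2,1,0,2,3,6,0,2,7,4,3,2,0,1,2,3,7,4,3,2,7,4,3,7,4,2,3,4,5,6,7,3,8,7,0,8,1,2,6,3,8,1,4,7,3,1,0,2,1,0,2,3,6,0,2,7,4,3,2,0,1,2,3,7,4,3,2,7,4,3,7,4,5,4,3,2,7,8,0,8,1,2,6,3,8,1,4,7,3,1,0,2,1,0,2,3,6,0,2,7,4,3,2,0,1,2,3,7,4,3,2,7,4,3,7,4,1,2,3,4,5,7,3,2,4,8,7,3,2,1,4,5],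
   [8,4,1,2,1,3,1,3,4,3,1,4,0,7,8,7,1,8,2,8,3,2,4,8,2,5,6,0,2,0,7,5,1,3,0,2,5,1,0,4,1,4,6,0,3,5,3,4,1,0,3,6,4,7,3,1,3,8,3,6,0,6,2,8,3,7,4,3,7,4,1,2,1,3,1,3,4,3,1,4,0,7,8,7,1,8,2,8,3,2,4,8,2,5,6,0,2,0,7,5,1,3,0,2,5,1,0,4,1,4,6,0,3,5,3,4,1,0,3,6,4,7,3,1,3,8,3,6,0,6,2,8,3,7,5,6,0,8,1,2,6,3,8,1,4,7,3,1,0,2,1,0,2,3,6,0,2,7,4,3,2,0,1,2,3,7,4,3,2,7,4,3,7,4,5,4,8,7,3,0,8,1,2,6,3,8,1,4,7,3,1,0,2,1,0,2,3,6,0,2,7,4,3,2,0,1,2,3,7,4,3,2,7,4,3,7,4,8,2,3,4,7,8,0,8,1,2,6,3,8,1,4,7,3,1,0,2,1,0,2,3,6,0,2,7,4,3,2,0,1,2,3,7,4,3,2,7,4,3,7,4,5,4,6,5,1,2,3,4,5,6,7,3,2,4,8,7,3,2,4,0]],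
  [(676,0,0),(1523,0,1),(1704,1,0),(3136,1,1),(1455,2,0),(1905,2,1),(1255,3,0),(2129,3,1),(3365,4,1),(3308,5,0),(827,5,1),(2852,6,0),(3084,6,1),(3267,9,0),(209,10,0),(3211,10,1),(1165,12,0),(1347,13,0),(3397,16,0)]⟩

/-- a level of a chain -/
def lvlS4 : Lvl := ⟨[1,2,3,4,5,6], [1,2,3,4,5,6],
  [[8,4,1,2,1,3,1,3,4,3,1,4,0,7,8,7,1,8,2,8,3,2,4,8,2,5,6,0,2,0,7,5,1,3,0,2,5,1,0,4,1,4,6,0,3,5,3,4,1,0,3,6,4,7,3,1,3,8,3,6,0,6,2,8,3,7,4,3,7,4,1,2,1,3,1,3,4,3,1,4,0,7,8,7,1,8,2,8,3,2,4,8,2,5,6,0,2,0,7,5,1,3,0,2,5,1,0,4,1,4,6,0,3,5,3,4,1,0,3,6,4,7,3,1,3,8,3,6,0,6,2,8,3,7,4,3,8,0,8,1,2,6,3,8,1,4,7,3,1,0,2,1,0,2,3,6,0,2,7,4,3,2,0,1,2,3,7,4,3,2,7,4,3,7,4,3,4,7,8,0,8,1,2,6,3,8,1,4,7,3,1,0,2,1,0,2,3,6,0,2,7,4,3,2,0,1,2,3,7,4,3,2,7,4,3,7,4,0,2,3,7,8,0,8,1,2,6,3,8,1,4,7,3,1,0,2,1,0,2,3,6,0,2,7,4,3,2,0,1,2,3,7,4,3,2,7,4,3,7,4,5,4,3,1,2,3,4,7,3,8,7],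
   [5,4,5,3,4,2,3,4,5,1,2,3,4,5,7,3,2,4,3,7,8,7,3,2,4,3,7]],
  [(2351,0,0),(826,0,1),(2179,1,0),(3091,1,1),(3366,3,0),(1860,4,0),(929,4,1),(3398,5,1)]⟩

/-- a level of a chain -/
def lvlS5 : Lvl := ⟨[1,0,2,1,3,4,7,3,8,7], [1,0,2,1,3,4,7,3,8,7],
  [[5,4,5,3,4,2,3,4,5,1,2,3,4,5],
   [4,5,3,4,2,3,4,5,1,2,3,4]],
  [(537,0,0),(331,0,1),(104,1,1)]⟩

/-- a level of a chain -/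
def lvlS6 : Lvl := ⟨[1,0,2,3,4,5,7,3,8,7], [1,0,2,3,4,5,7,3,8,7],
  [[4,3,2,3,4]],
  [(331,0,0)]⟩

/-- a level of a chain -/
def lvlS7 : Lvl := ⟨[1,2,3,4,5,6,7,3,2,1,4,3,2,5,7,8,7,3,2,1,0,4,3,2,5,7,3,4,8,7,3], [1,2,3,4,5,6,7,3,2,1,4,3,2,5,7,8,7,3,2,1,0,4,3,2,5,7,3,4,8,7,3],
  [],
  []⟩

/-- a level of a chain -/
def lvlS8 : Lvl := ⟨[1,2,3,4,5,6,7,3,2,1,4,3,2,5,8,7,3,2,1,4,3,2,5,6,7,3,4,8,7,3,2], [1,2,3,4,5,6,7,3,2,1,4,3,2,5,8,7,3,2,1,4,3,2,5,6,7,3,4,8,7,3,2],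
  [],
  []⟩

/-- a level of a chain -/
def lvlS9 : Lvl := ⟨[1,2,3,4,5,6,7,3,2,1,4,5,8,7,3,2,1,4,3,2,5,4,7,3,2,1,4,8,7,3,2], [1,2,3,4,5,6,7,3,2,1,4,5,8,7,3,2,1,4,3,2,5,4,7,3,2,1,4,8,7,3,2],
  [],
  []⟩

/-- the chain -/
def chainS : List Lvl := [lvlS0,lvlS1,lvlS2,lvlS3,lvlS4,lvlS5,lvlS6,lvlS7,lvlS8,lvlS9]

/-- the last point -/
def splitS : List Nat × List Nat := ([], [1,0,2,1,3,2,4,3,5,4,6,5])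

/-- seed number and moves reaching each generator -/
def movesS : List (Nat × List Nat) := [(10,[]),(3,[7,5,10,9]),(3,[10,7,8,3]),(1,[]),(3,[10,6,7,8]),(3,[7,5,10,8]),(3,[7,8,10,6]),(2,[10,7,4,9,10,6,7]),(0,[])]

/-- the twisting word -/
def wordAB : List Nat := [2,3,1,2,0,1,0,1,0,2,1,3,2,7,8,3,7,2,3,1,2,0,1,0,1,0,2,1,3,2,7,3,8,7]

/-- a level of a chain -/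
def lvlAB0 : Lvl := ⟨[1,0,2,1,3,2,7,3,8,7], [1,0,2,1,3,2,7,3,8,7],
  [[8,0,8,1,2,6,3,8,1,4,7,3,1,0,2,1,0,2,3,6,0,2,7,4,3,2,0,1,2,3,7,4,3,2,7,4,3,7,1,2,1,3,1,3,4,3,1,4,0,7,8,7,1,8,2,8,3,2,4,8,2,5,6,0,2,0,7,5,1,3,0,2,5,1,0,4,1,4,6,0,3,5,3,4,1,0,3,6,4,7,3,1,3,8,3,6,0,6,2,8,3,7,4,3,7,5,4,1,2,1,3,1,3,4,3,1,4,0,7,8,7,1,8,2,8,3,2,4,8,2,5,6,0,2,0,7,5,1,3,0,2,5,1,0,4,1,4,6,0,3,5,3,4,1,0,3,6,4,7,3,1,3,8,3,6,0,6,2,8,3,7,4,3,7,4,5,6,7,8,0,8,1,2,6,3,8,1,4,7,3,1,0,2,1,0,2,3,6,0,2,7,4,3,2,0,1,2,3,7,4,3,2,7,4,3,7,4,5,4,8,0,8,1,2,6,3,8,1,4,7,3,1,0,2,1,0,2,3,6,0,2,7,4,3,2,0,1,2,3,7,4,3,2,7,4,3,7,4,3,4,5,6,0,8,1,2,6,3,8,1,4,7,3,1,0,2,1,0,2,3,6,0,2,7,4,3,2,0,1,2,3,7,4,3,2,7,4,3,7,4,5,4,8,7,3,4,5,6,0,2,3,7,8,0,8,1,2,6,3,8,1,4,7,3,1,0,2,1,0,2,3,6,0,2,7,4,3,2,0,1,2,3,7,4,3,2,7,4,3,7,4,5,4,3,2,6,5,4,7,1,2,3,4,5,6,7,3,2,1,4,3,2,5,8,7,3,2,4,3,5,4,7,3,2,1],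
   [8,4,1,2,1,3,1,3,4,3,1,4,0,7,8,7,1,8,2,8,3,2,4,8,2,5,6,0,2,0,7,5,1,3,0,2,5,1,0,4,1,4,6,0,3,5,3,4,1,0,3,6,4,7,3,1,3,8,3,6,0,6,2,8,3,7,4,3,7,4,5,7,8,0,8,1,2,6,3,8,1,4,7,3,1,0,2,1,0,2,3,6,0,2,7,4,3,2,0,1,2,3,7,4,3,2,7,4,3,7,4,5,6,8,3,4,5,6,7,3,4,8,0,8,1,2,6,3,8,1,4,7,3,1,0,2,1,0,2,3,6,0,2,7,4,3,2,0,1,2,3,7,4,3,2,7,4,3,7,4,5,4,3,7,8,0,2,3,4,5,6,7,3,4,8,7,0,8,1,2,6,3,8,1,4,7,3,1,0,2,1,0,2,3,6,0,2,7,4,3,2,0,1,2,3,7,4,3,2,7,4,3,7,4,5,4,3,6,1,2,3,4,5,6,7,3,2,1,4,5,8,7,3,2,1,4,3,2,5,4,7,8,0]],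
  [(532,0,0),(1458,0,1),(2843,1,0),(631,1,1),(331,2,0),(2043,2,1),(3363,3,0),(3053,3,1),(3419,4,0),(534,4,1),(1831,5,0),(2128,5,1),(3337,6,0),(788,6,1),(2638,7,0),(17,7,1),(3347,8,0),(668,8,1),(2438,9,0),(3388,9,1),(1860,10,0),(812,10,1),(3398,11,0),(914,11,1),(3087,12,0),(3239,12,1),(3460,13,0),(2126,13,1),(111,14,0),(596,15,0),(3088,15,1),(2820,16,1),(2276,17,0),(16,17,1),(1100,18,0),(1103,18,1),(2496,19,1),(826,20,0),(2647,20,1),(3387,21,0),(3055,21,1),(3412,22,0),(2199,23,1),(3163,24,0),(97,24,1),(2830,25,0),(2351,26,0),(363,26,1),(3366,27,1),(3180,29,0),(2125,30,0),(2179,30,1),(3329,31,1),(2049,32,0),(785,35,0),(929,36,1),(3481,37,1),(537,38,1),(104,39,1),(670,41,1),(2454,42,0),(3355,42,1),(3368,44,0),(1840,45,1),(3367,47,0),(3451,53,0),(19,53,1),(3091,55,0),(917,57,0),(2586,59,0),(22,65,1)]⟩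

/-- a level of a chain -/
def lvlAB1 : Lvl := ⟨[1,0,2,3,4,5,7,3,2,4,3,8,7,3,2,1,4], [1,0,2,3,4,5,7,3,2,4,3,8,7,3,2,1,4],
  [[8,4,5,6,7,0,8,1,2,6,3,8,1,4,7,3,1,0,2,1,0,2,3,6,0,2,7,4,3,2,0,1,2,3,7,4,3,2,7,4,3,7,4,5,4,8,0,8,1,2,6,3,8,1,4,7,3,1,0,2,1,0,2,3,6,0,2,7,4,3,2,0,1,2,3,7,4,3,2,7,4,3,7,4,5,3,4,5,6,7,8,0,8,1,2,6,3,8,1,4,7,3,1,0,2,1,0,2,3,6,0,2,7,4,3,2,0,1,2,3,7,4,3,2,7,4,3,7,4,8,7,3,4,5,2,3,4,5,6,0,8,1,2,6,3,8,1,4,7,3,1,0,2,1,0,2,3,6,0,2,7,4,3,2,0,1,2,3,7,4,3,2,7,4,3,7,4,5,8,0,8,1,2,6,3,8,1,4,7,3,1,0,2,1,0,2,3,6,0,2,7,4,3,2,0,1,2,3,7,4,3,2,7,4,3,7,4,1,0],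
   [6,5,0,8,1,2,6,3,8,1,4,7,3,1,0,2,1,0,2,3,6,0,2,7,4,3,2,0,1,2,3,7,4,3,2,7,4,3,7,4,7,8,0,8,1,2,6,3,8,1,4,7,3,1,0,2,1,0,2,3,6,0,2,7,4,3,2,0,1,2,3,7,4,3,2,7,4,3,7,4,3,4,5,6,7,3,4,8,0,8,1,2,6,3,8,1,4,7,3,1,0,2,1,0,2,3,6,0,2,7,4,3,2,0,1,2,3,7,4,3,2,7,4,3,7,4,5,4,3,6,0,2,3,4,5,6,7,3,4,5,8,7,3,4,0,8,1,2,6,3,8,1,4,7,3,1,0,2,1,0,2,3,6,0,2,7,4,3,2,0,1,2,3,7,4,3,2,7,4,3,7,4,8,7,3,1,2,3,4,5,7,3,2,4,8,7,3,2,4,5,6]],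
  [(3055,0,0),(3337,0,1),(2586,1,0),(788,1,1),(2454,2,0),(2049,2,1),(914,3,0),(2647,3,1),(3180,4,0),(2199,4,1),(631,5,0),(3419,5,1),(3460,6,1),(3355,7,0),(1103,7,1),(2276,9,0),(1840,9,1),(3329,11,0),(1831,12,0),(2830,12,1),(3451,13,0),(785,16,0),(3388,16,1),(668,17,0),(3387,17,1),(2438,18,0),(2043,18,1),(670,19,0),(3363,19,1),(534,21,1),(3239,22,0),(3053,23,1),(2820,24,0),(812,26,0),(3412,26,1),(2496,32,0),(2638,33,0),(917,36,0),(1100,37,0)]⟩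

/-- a level of a chain -/
def lvlAB2 : Lvl := ⟨[1,0,2,1,3,4], [1,0,2,1,3,4],
  [[8,4,1,2,1,3,1,3,4,3,1,4,0,7,8,7,1,8,2,8,3,2,4,8,2,5,6,0,2,0,7,5,1,3,0,2,5,1,0,4,1,4,6,0,3,5,3,4,1,0,3,6,4,7,3,1,3,8,3,6,0,6,2,8,3,7,4,3,7,4,1,2,1,3,1,3,4,3,1,4,0,7,8,7,1,8,2,8,3,2,4,8,2,5,6,0,2,0,7,5,1,3,0,2,5,1,0,4,1,4,6,0,3,5,3,4,1,0,3,6,4,7,3,1,3,8,3,6,0,6,2,8,3,7,4,3,7,5,4,1,2,1,3,1,3,4,3,1,4,0,7,8,7,1,8,2,8,3,2,4,8,2,5,6,0,2,0,7,5,1,3,0,2,5,1,0,4,1,4,6,0,3,5,3,4,1,0,3,6,4,7,3,1,3,8,3,6,0,6,2,8,3,7,4,3,7,4,5,6,7,3,4,5,6,7,3,4,5,8,7,3,0,8,1,2,6,3,8,1,4,7,3,1,0,2,1,0,2,3,6,0,2,7,4,3,2,0,1,2,3,7,4,3,2,7,4,3,7,4,5,4,3,2,3,4,5,0,8,1,2,6,3,8,1,4,7,3,1,0,2,1,0,2,3,6,0,2,7,4,3,2,0,1,2,3,7,4,3,2,7,4,3,7,4,8,7,3,2,4,3,5,4,6,5,1,2,3,4,5,6,7,3,2,1,4,3,2,5,4,3,8,7,3,2,1,4,3,5,4],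
   [8,5,0,8,1,2,6,3,8,1,4,7,3,1,0,2,1,0,2,3,6,0,2,7,4,3,2,0,1,2,3,7,4,3,2,7,4,3,7,1,2,1,3,1,3,4,3,1,4,0,7,8,7,1,8,2,8,3,2,4,8,2,5,6,0,2,0,7,5,1,3,0,2,5,1,0,4,1,4,6,0,3,5,3,4,1,0,3,6,4,7,3,1,3,8,3,6,0,6,2,8,3,7,4,3,7,4,5,7,0,8,1,2,6,3,8,1,4,7,3,1,0,2,1,0,2,3,6,0,2,7,4,3,2,0,1,2,3,7,4,3,2,7,4,3,7,4,8,3,4,5,6,0,8,1,2,6,3,8,1,4,7,3,1,0,2,1,0,2,3,6,0,2,7,4,3,2,0,1,2,3,7,4,3,2,7,4,3,7,4,5,4,3,8,7,0,8,1,2,6,3,8,1,4,7,3,1,0,2,1,0,2,3,6,0,2,7,4,3,2,0,1,2,3,7,4,3,2,7,4,3,7,4,5,8,0,8,1,2,6,3,8,1,4,7,3,1,0,2,1,0,2,3,6,0,2,7,4,3,2,0,1,2,3,7,4,3,2,7,4,3,7,4,2,3,4,5,0,8,1,2,6,3,8,1,4,7,3,1,0,2,1,0,2,3,6,0,2,7,4,3,2,0,1,2,3,7,4,3,2,7,4,3,7,4,8,7,3,2,4,3,5,0,8,1,2,6,3,8,1,4,7,3,1,0,2,1,0,2,3,6,0,2,7,4,3,2,0,1,2,3,7,4,3,2,7,4,3,7,4,1,2,3,4,5,6,7,3,2,1,4,3,2,5,4,3,8,7,3,2,1,4,3,2,5,7,3,8,7]],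
  [(537,0,0),(3367,0,1),(104,1,0),(2126,1,1),(97,2,0),(331,4,0),(2125,5,0),(3087,6,0),(3368,7,0),(3088,9,0),(19,9,1)]⟩

/-- a level of a chain -/
def lvlAB3 : Lvl := ⟨[1,2,3,4,5,6,7,3,8,7], [1,2,3,4,5,6,7,3,8,7],
  [[0,8,1,2,6,3,8,1,4,7,3,1,0,2,1,0,2,3,6,0,2,7,4,3,2,0,1,2,3,7,4,3,2,7,4,3,7,1,2,1,3,1,3,4,3,1,4,0,7,8,7,1,8,2,8,3,2,4,8,2,5,6,0,2,0,7,5,1,3,0,2,5,1,0,4,1,4,6,0,3,5,3,4,1,0,3,6,4,7,3,1,3,8,3,6,0,6,2,8,3,7,4,3,7,5,6,4,5,3,4,7,3,0,2,3,4,5,6,7,3,4,5,8,0,8,1,2,6,3,8,1,4,7,3,1,0,2,1,0,2,3,6,0,2,7,4,3,2,0,1,2,3,7,4,3,2,7,4,3,7,4,5,4,3,2,1,2,3,4,5],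
   [6,4,5,0,8,1,2,6,3,8,1,4,7,3,1,0,2,1,0,2,3,6,0,2,7,4,3,2,0,1,2,3,7,4,3,2,7,4,3,7,4,8,7,3,4,5,6,0,8,1,2,6,3,8,1,4,7,3,1,0,2,1,0,2,3,6,0,2,7,4,3,2,0,1,2,3,7,4,3,2,7,4,3,7,4,5,4,3,8,0,8,1,2,6,3,8,1,4,7,3,1,0,2,1,0,2,3,6,0,2,7,4,3,2,0,1,2,3,7,4,3,2,7,4,3,7,4,5,4,6,5,2,3,4,5,6,7,3,0,8,1,2,6,3,8,1,4,7,3,1,0,2,1,0,2,3,6,0,2,7,4,3,2,0,1,2,3,7,4,3,2,7,4,3,7,4,5,8,7,1,2,3,4,5]],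
  [(2351,0,0),(3366,0,1),(2843,1,0),(3398,1,1),(3347,2,0),(3091,2,1),(596,4,0),(1458,4,1),(929,7,0),(1860,8,0),(363,8,1)]⟩

/-- a level of a chain -/
def lvlAB4 : Lvl := ⟨[1,0,2,1,3,4,7,3,8,7], [1,0,2,1,3,4,7,3,8,7],
  [[4,1,2,1,3,1,3,4,3,1,4,0,7,8,7,1,8,2,8,3,2,4,8,2,5,6,0,2,0,7,5,1,3,0,2,5,1,0,4,1,4,6,0,3,5,3,4,1,0,3,6,4,7,3,1,3,8,3,6,0,6,2,8,3,7,4,3,7,4,1,2,1,3,1,3,4,3,1,4,0,7,8,7,1,8,2,8,3,2,4,8,2,5,6,0,2,0,7,5,1,3,0,2,5,1,0,4,1,4,6,0,3,5,3,4,1,0,3,6,4,7,3,1,3,8,3,6,0,6,2,8,3,7,4,3,7,5,4,1,2,1,3,1,3,4,3,1,4,0,7,8,7,1,8,2,8,3,2,4,8,2,5,6,0,2,0,7,5,1,3,0,2,5,1,0,4,1,4,6,0,3,5,3,4,1,0,3,6,4,7,3,1,3,8,3,6,0,6,2,8,3,7,4,3,7,4,5,6,7,3,4,5,6,7,3,4,8,7,3,0,8,1,2,6,3,8,1,4,7,3,1,0,2,1,0,2,3,6,0,2,7,4,3,2,0,1,2,3,7,4,3,2,7,4,3,7,4,5,4,2,3,4,5,6,0,8,1,2,6,3,8,1,4,7,3,1,0,2,1,0,2,3,6,0,2,7,4,3,2,0,1,2,3,7,4,3,2,7,4,3,7,4,5,8,7,3,2,1,2,3,4,5,6,7,3,2,1,4,3,2,5,4,3,8,7,3,2]],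
  [(3087,0,0)]⟩

/-- a level of a chain -/
def lvlAB5 : Lvl := ⟨[1,0,2,3,4,5], [1,0,2,3,4,5],
  [[4,1,2,1,3,1,3,4,3,1,4,0,7,8,7,1,8,2,8,3,2,4,8,2,5,6,0,2,0,7,5,1,3,0,2,5,1,0,4,1,4,6,0,3,5,3,4,1,0,3,6,4,7,3,1,3,8,3,6,0,6,2,8,3,7,4,3,7,4,1,2,1,3,1,3,4,3,1,4,0,7,8,7,1,8,2,8,3,2,4,8,2,5,6,0,2,0,7,5,1,3,0,2,5,1,0,4,1,4,6,0,3,5,3,4,1,0,3,6,4,7,3,1,3,8,3,6,0,6,2,8,3,7,4,3,8,0,8,1,2,6,3,8,1,4,7,3,1,0,2,1,0,2,3,6,0,2,7,4,3,2,0,1,2,3,7,4,3,2,7,4,3,7,4,3,4,5,6,7,3,8,7,0,8,1,2,6,3,8,1,4,7,3,1,0,2,1,0,2,3,6,0,2,7,4,3,2,0,1,2,3,7,4,3,2,7,4,3,7,4,5,4,3,7,0,2,3,4,5,6,0,8,1,2,6,3,8,1,4,7,3,1,0,2,1,0,2,3,6,0,2,7,4,3,2,0,1,2,3,7,4,3,2,7,4,3,7,4,5,8,7,3,0,8,1,2,6,3,8,1,4,7,3,1,0,2,1,0,2,3,6,0,2,7,4,3,2,0,1,2,3,7,4,3,2,7,4,3,7,4,8,7],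
   [4,1,2,1,3,1,3,4,3,1,4,0,7,8,7,1,8,2,8,3,2,4,8,2,5,6,0,2,0,7,5,1,3,0,2,5,1,0,4,1,4,6,0,3,5,3,4,1,0,3,6,4,7,3,1,3,8,3,6,0,6,2,8,3,7,4,3,7,4,1,2,1,3,1,3,4,3,1,4,0,7,8,7,1,8,2,8,3,2,4,8,2,5,6,0,2,0,7,5,1,3,0,2,5,1,0,4,1,4,6,0,3,5,3,4,1,0,3,6,4,7,3,1,3,8,3,6,0,6,2,8,3,7,4,3,8,0,8,1,2,6,3,8,1,4,7,3,1,0,2,1,0,2,3,6,0,2,7,4,3,2,0,1,2,3,7,4,3,2,7,4,3,7,4,3,4,5,6,7,8,0,8,1,2,6,3,8,1,4,7,3,1,0,2,1,0,2,3,6,0,2,7,4,3,2,0,1,2,3,7,4,3,2,7,4,3,7,4,5,4,3,7,0,2,3,4,5,6,0,8,1,2,6,3,8,1,4,7,3,1,0,2,1,0,2,3,6,0,2,7,4,3,2,0,1,2,3,7,4,3,2,7,4,3,7,4,5,4,3,2,8,7,3,0,8,1,2,6,3,8,1,4,7,3,1,0,2,1,0,2,3,6,0,2,7,4,3,2,0,1,2,3,7,4,3,2,7,4,3,7,4,8,7]],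
  [(2126,0,0),(3368,0,1),(537,1,1)]⟩

/-- a level of a chain -/
def lvlAB6 : Lvl := ⟨[1,0,2,1,3,2], [1,0,2,1,3,2],
  [],
  []⟩

/-- a level of a chain -/
def lvlAB7 : Lvl := ⟨[1,0,2,3,4,5,7,3,2,4,3,8,7,3,2,4,5], [1,0,2,3,4,5,7,3,2,4,3,8,7,3,2,4,5],
  [],
  []⟩

/-- a level of a chain -/
def lvlAB8 : Lvl := ⟨[1,2,3,4,5,6,7,3,2,1,4,3,2,5,4,3,8,7,3,2,1,0,4,3,2,1], [1,2,3,4,5,6,7,3,2,1,4,3,2,5,4,3,8,7,3,2,1,0,4,3,2,1],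
  [],
  []⟩

/-- the chain -/
def chainAB : List Lvl := [lvlAB0,lvlAB1,lvlAB2,lvlAB3,lvlAB4,lvlAB5,lvlAB6,lvlAB7,lvlAB8]

/-- the last point -/
def splitAB : List Nat × List Nat := ([1,0,2,1], [1,0,2,1,3,2,4])

/-- seed number and moves reaching each generator -/
def movesAB : List (Nat × List Nat) := [(2,[9,7,3,1,0,9,3,1]),(3,[5,9,2,3,6,8,9]),(9,[]),(6,[]),(2,[9,6]),(2,[3,5,9,3,6,8,9,2]),(0,[7,9,2,3,8,9,3,1]),(7,[9,3,2,5,3,4,5,9,6]),(0,[])]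

/-- paths to the points of the generators -/
def genPaths : List (List Nat) := [[],
  [1,0],
  [1,0,2,1],
  [1,0,2,1,3,2],
  [1,0,2,1,3,2,4,3],
  [1,0,2,1,3,2,4,3,5,4],
  [1,0,2,1,3,2,4,3,5,4,6,5],
  [1,0,2,1,3,2,7,3],
  [1,0,2,1,3,2,7,3,8,7]]

end Cfsg.Agent.H50.M22Outer
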