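import Mathlib.Data.List.Basic

/-! The normal subgroup of order 64 and the action on it. -/

set_option autoImplicit false
set_option maxRecDepth 100000

namespace Cfsg.Agent.H50.M22Outer

/-- words of a basis -/
def oWords : List (List Nat) := [[8,5,0,8,1,2,6,3,8,1,4,7,3,1,0,2,1,0,2,3,6,0,2,7,4,3,2,0,1,2,3,7,4,3,2,7,4,3,7,1,2,1,3,1,3,4,3,1,4,0,7,8,7,1,8,2,8,3,2,4,8,2,5,6,0,2,0,7,5,1,3,0,2,5,1,0,4,1,4,6,0,3,5,3,4,1,0,3,6,4,7,3,1,3,8,3,6,0,6,2,8,3,7,4,3,7,4,5,7,0,8,1,2,6,3,8,1,4,7,3,1,0,2,1,0,2,3,6,0,2,7,4,3,2,0,1,2,3,7,4,3,2,7,4,3,7,4,8,7,3,4,5,6,0,8,1,2,6,3,8,1,4,7,3,1,0,2,1,0,2,3,6,0,2,7,4,3,2,0,1,2,3,7,4,3,2,7,4,3,7,4,5,4,3,8,7,3,4,5,6,0,2,1,2,3,4,5,6,7,3,4,5,8,7,3,4,0,1],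
  [6,4,3,7,8,0,8,1,2,6,3,8,1,4,7,3,1,0,2,1,0,2,3,6,0,2,7,4,3,2,0,1,2,3,7,4,3,2,7,4,3,7,4,5,4,3,6,5,4,7,3,0,2,3,4,5,6,7,3,4,5,8,7,3,4],
  [6,5,4,5,6,0,8,1,2,6,3,8,1,4,7,3,1,0,2,1,0,2,3,6,0,2,7,4,3,2,0,1,2,3,7,4,3,2,7,4,3,7,4,5,4,3,4,5,6,0,8,1,2,6,3,8,1,4,7,3,1,0,2,1,0,2,3,6,0,2,7,4,3,2,0,1,2,3,7,4,3,2,7,4,3,7,4,5,4,8,7,3,4,5,0,8,1,2,6,3,8,1,4,7,3,1,0,2,1,0,2,3,6,0,2,7,4,3,2,0,1,2,3,7,4,3,2,7,4,3,7,4,5,0,2,3,4,5,6,7,3,4,5,8,7,3,4,0,8,1,2,6,3,8,1,4,7,3,1,0,2,1,0,2,3,6,0,2,7,4,3,2,0,1,2,3,7,4,3,2,7,4,3,7,4,8,7,3,1,2,3,4,5,6,7,3,4,5,8,7,3,4,0,1],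
  [4,1,2,1,3,1,3,4,3,1,4,0,7,8,7,1,8,2,8,3,2,4,8,2,5,6,0,2,0,7,5,1,3,0,2,5,1,0,4,1,4,6,0,3,5,3,4,1,0,3,6,4,7,3,1,3,8,3,6,0,6,2,8,3,7,4,3,7,4,1,2,1,3,1,3,4,3,1,4,0,7,8,7,1,8,2,8,3,2,4,8,2,5,6,0,2,0,7,5,1,3,0,2,5,1,0,4,1,4,6,0,3,5,3,4,1,0,3,6,4,7,3,1,3,8,3,6,0,6,2,8,3,7,4,3,7,5,0,8,1,2,6,3,8,1,4,7,3,1,0,2,1,0,2,3,6,0,2,7,4,3,2,0,1,2,3,7,4,3,2,7,4,3,7,5,6,0,8,1,2,6,3,8,1,4,7,3,1,0,2,1,0,2,3,6,0,2,7,4,3,2,0,1,2,3,7,4,3,2,7,4,3,7,4,5,8,7,0,8,1,2,6,3,8,1,4,7,3,1,0,2,1,0,2,3,6,0,2,7,4,3,2,0,1,2,3,7,4,3,2,7,4,3,7,4,3,4,5,6,7,8,0,8,1,2,6,3,8,1,4,7,3,1,0,2,1,0,2,3,6,0,2,7,4,3,2,0,1,2,3,7,4,3,2,7,4,3,7,4,5,4,3,8,7,2,3,4,5,0,8,1,2,6,3,8,1,4,7,3,1,0,2,1,0,2,3,6,0,2,7,4,3,2,0,1,2,3,7,4,3,2,7,4,3,7,4,8,7,3,4,5,6,0,8,1,2,6,3,8,1,4,7,3,1,0,2,1,0,2,3,6,0,2,7,4,3,2,0,1,2,3,7,4,3,2,7,4,3,7,4,5,1,2,3,4,5,6,7,3,2,1,4,3,2,5,4,3,8,7,3,2],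
  [8,3],
  [8,4,5,3,4,5,7,3,8,7,2,3,4,5,1,2,3,4,7,3,2,1,8,7,3,2]]

/-- matrices of the generators of the chain, by columns -/
def chainMats : List (List Nat) := [[43,42,37,39,32,19],
  [39,2,3,61,17,34],
  [21,8,12,23,16,52],
  [12,3,30,4,16,60],
  [9,15,3,1,16,32],
  [8,12,3,1,16,32],
  [3,15,6,2,16,32],
  [12,15,9,8,16,32],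
  [1,2,4,8,16,32],
  [1,2,4,8,16,32],
  [6,2,3,15,16,32]]

/-- further elements with their matrices -/
def extraGens : List (List Nat × List Nat) := [([8,0,8,1,2,6,3,8,1,4,7,3,1,0,2,1,0,2,3,6,0,2,7,4,3,2,0,1,2,3,7,4,3,2,7,4,3,7,1,2,1,3,1,3,4,3,1,4,0,7,8,7,1,8,2,8,3,2,4,8,2,5,6,0,2,0,7,5,1,3,0,2,5,1,0,4,1,4,6,0,3,5,3,4,1,0,3,6,4,7,3,1,3,8,3,6,0,6,2,8,3,7,4,3,7,5,4,1,2,1,3,1,3,4,3,1,4,0,7,8,7,1,8,2,8,3,2,4,8,2,5,6,0,2,0,7,5,1,3,0,2,5,1,0,4,1,4,6,0,3,5,3,4,1,0,3,6,4,7,3,1,3,8,3,6,0,6,2,8,3,7,4,3,7,4,5,6,7,8,0,8,1,2,6,3,8,1,4,7,3,1,0,2,1,0,2,3,6,0,2,7,4,3,2,0,1,2,3,7,4,3,2,7,4,3,7,4,5,4,8,0,8,1,2,6,3,8,1,4,7,3,1,0,2,1,0,2,3,6,0,2,7,4,3,2,0,1,2,3,7,4,3,2,7,4,3,7,4,3,4,5,6,0,8,1,2,6,3,8,1,4,7,3,1,0,2,1,0,2,3,6,0,2,7,4,3,2,0,1,2,3,7,4,3,2,7,4,3,7,4,5,4,8,7,3,4,5,6,0,2,3,7,8,0,8,1,2,6,3,8,1,4,7,3,1,0,2,1,0,2,3,6,0,2,7,4,3,2,0,1,2,3,7,4,3,2,7,4,3,7,4,5,4,3,2,6,5,4,7,1,2,3,4,5,6,7,3,2,1,4,3,2,5,8,7,3,2,4,3,5,4,7,3,2,1],[43,42,37,39,32,19]),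
  ([8,4,1,2,1,3,1,3,4,3,1,4,0,7,8,7,1,8,2,8,3,2,4,8,2,5,6,0,2,0,7,5,1,3,0,2,5,1,0,4,1,4,6,0,3,5,3,4,1,0,3,6,4,7,3,1,3,8,3,6,0,6,2,8,3,7,4,3,7,4,5,7,8,0,8,1,2,6,3,8,1,4,7,3,1,0,2,1,0,2,3,6,0,2,7,4,3,2,0,1,2,3,7,4,3,2,7,4,3,7,4,5,6,8,3,4,5,6,7,3,4,8,0,8,1,2,6,3,8,1,4,7,3,1,0,2,1,0,2,3,6,0,2,7,4,3,2,0,1,2,3,7,4,3,2,7,4,3,7,4,5,4,3,7,8,0,2,3,4,5,6,7,3,4,8,7,0,8,1,2,6,3,8,1,4,7,3,1,0,2,1,0,2,3,6,0,2,7,4,3,2,0,1,2,3,7,4,3,2,7,4,3,7,4,5,4,3,6,1,2,3,4,5,6,7,3,2,1,4,5,8,7,3,2,1,4,3,2,5,4,7,8,0],[39,2,3,61,17,34]),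
  ([5,0,8,1,2,6,3,8,1,4,7,3,1,0,2,1,0,2,3,6,0,2,7,4,3,2,0,1,2,3,7,4,3,2,7,4,3,7,1,2,1,3,1,3,4,3,1,4,0,7,8,7,1,8,2,8,3,2,4,8,2,5,6,0,2,0,7,5,1,3,0,2,5,1,0,4,1,4,6,0,3,5,3,4,1,0,3,6,4,7,3,1,3,8,3,6,0,6,2,8,3,7,4,3,7,5,4,5,6,0,8,1,2,6,3,8,1,4,7,3,1,0,2,1,0,2,3,6,0,2,7,4,3,2,0,1,2,3,7,4,3,2,7,4,3,7,4,5,4,8,0,8,1,2,6,3,8,1,4,7,3,1,0,2,1,0,2,3,6,0,2,7,4,3,2,0,1,2,3,7,4,3,2,7,4,3,7,4,5,6,3,7,8,0,8,1,2,6,3,8,1,4,7,3,1,0,2,1,0,2,3,6,0,2,7,4,3,2,0,1,2,3,7,4,3,2,7,4,3,7,4,5,4,3,6,5,4,7,3,0,8,1,2,6,3,8,1,4,7,3,1,0,2,1,0,2,3,6,0,2,7,4,3,2,0,1,2,3,7,4,3,2,7,4,3,7,4,8,7,2,3,4,5,6,0,8,1,2,6,3,8,1,4,7,3,1,0,2,1,0,2,3,6,0,2,7,4,3,2,0,1,2,3,7,4,3,2,7,4,3,7,4,5,4,8,7,3,2,4,5,6,0,8,1,2,6,3,8,1,4,7,3,1,0,2,1,0,2,3,6,0,2,7,4,3,2,0,1,2,3,7,4,3,2,7,4,3,7,4,8,1,2,3,4,5,7,3,2,4,0],[1,9,55,2,48,17]),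
  ([8,4,1,2,1,3,1,3,4,3,1,4,0,7,8,7,1,8,2,8,3,2,4,8,2,5,6,0,2,0,7,5,1,3,0,2,5,1,0,4,1,4,6,0,3,5,3,4,1,0,3,6,4,7,3,1,3,8,3,6,0,6,2,8,3,7,4,3,7,4,1,2,1,3,1,3,4,3,1,4,0,7,8,7,1,8,2,8,3,2,4,8,2,5,6,0,2,0,7,5,1,3,0,2,5,1,0,4,1,4,6,0,3,5,3,4,1,0,3,6,4,7,3,1,3,8,3,6,0,6,2,8,3,7,4,3,7,4,7,8,0,8,1,2,6,3,8,1,4,7,3,1,0,2,1,0,2,3,6,0,2,7,4,3,2,0,1,2,3,7,4,3,2,7,4,3,7,4,5,4,3,7,8,0,8,1,2,6,3,8,1,4,7,3,1,0,2,1,0,2,3,6,0,2,7,4,3,2,0,1,2,3,7,4,3,2,7,4,3,7,4,5,4,3,6,5,4,0,8,1,2,6,3,8,1,4,7,3,1,0,2,1,0,2,3,6,0,2,7,4,3,2,0,1,2,3,7,4,3,2,7,4,3,7,4,8,0,2,3,4,5,6,7,0,8,1,2,6,3,8,1,4,7,3,1,0,2,1,0,2,3,6,0,2,7,4,3,2,0,1,2,3,7,4,3,2,7,4,3,7,4,8,7,3,2,4,3,5,1,2,3,4,5,6,7,3,2,1,4,3,2,8,7,3,2,1,4,3,5,6],[1,27,12,8,56,16]),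
  ([0,8,1,2,6,3,8,1,4,7,3,1,0,2,1,0,2,3,6,0,2,7,4,3,2,0,1,2,3,7,4,3,2,7,4,3,7,4,5,4,1,2,1,3,1,3,4,3,1,4,0,7,8,7,1,8,2,8,3,2,4,8,2,5,6,0,2,0,7,5,1,3,0,2,5,1,0,4,1,4,6,0,3,5,3,4,1,0,3,6,4,7,3,1,3,8,3,6,0,6,2,8,3,7,4,3,7,4,5,6,0,8,1,2,6,3,8,1,4,7,3,1,0,2,1,0,2,3,6,0,2,7,4,3,2,0,1,2,3,7,4,3,2,7,4,3,7,4,5,3,4,5,7,0,8,1,2,6,3,8,1,4,7,3,1,0,2,1,0,2,3,6,0,2,7,4,3,2,0,1,2,3,7,4,3,2,7,4,3,7,4,8,7,3,4,2,3,4,5,6,0,8,1,2,6,3,8,1,4,7,3,1,0,2,1,0,2,3,6,0,2,7,4,3,2,0,1,2,3,7,4,3,2,7,4,3,7,4,5,4,8,7,3,0,8,1,2,6,3,8,1,4,7,3,1,0,2,1,0,2,3,6,0,2,7,4,3,2,0,1,2,3,7,4,3,2,7,4,3,7,4,8,1,2,3,4,5,6,7,3,2,1,4,3,2,5,8,7,3,2,1,4,3,2,5,4,6,0,1],[1,58,4,2,18,48]),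
  ([0,8,1,2,6,3,8,1,4,7,3,1,0,2,1,0,2,3,6,0,2,7,4,3,2,0,1,2,3,7,4,3,2,7,4,3,7,1,2,1,3,1,3,4,3,1,4,0,7,8,7,1,8,2,8,3,2,4,8,2,5,6,0,2,0,7,5,1,3,0,2,5,1,0,4,1,4,6,0,3,5,3,4,1,0,3,6,4,7,3,1,3,8,3,6,0,6,2,8,3,7,4,3,7,4,7,3,4,5,6,7,0,8,1,2,6,3,8,1,4,7,3,1,0,2,1,0,2,3,6,0,2,7,4,3,2,0,1,2,3,7,4,3,2,7,4,3,7,4,8,7,3,4,2,3,4,5,6,7,8,0,8,1,2,6,3,8,1,4,7,3,1,0,2,1,0,2,3,6,0,2,7,4,3,2,0,1,2,3,7,4,3,2,7,4,3,7,4,5,4,3,2,6,5,7,1,2,3,4,5,6,7,3,2,4,3,8,7,3,2,4,3,0,1],[1,2,4,42,32,18]),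
  ([0,8,1,2,6,3,8,1,4,7,3,1,0,2,1,0,2,3,6,0,2,7,4,3,2,0,1,2,3,7,4,3,2,7,4,3,7,4,5,4,1,2,1,3,1,3,4,3,1,4,0,7,8,7,1,8,2,8,3,2,4,8,2,5,6,0,2,0,7,5,1,3,0,2,5,1,0,4,1,4,6,0,3,5,3,4,1,0,3,6,4,7,3,1,3,8,3,6,0,6,2,8,3,7,4,3,7,5,4,1,2,1,3,1,3,4,3,1,4,0,7,8,7,1,8,2,8,3,2,4,8,2,5,6,0,2,0,7,5,1,3,0,2,5,1,0,4,1,4,6,0,3,5,3,4,1,0,3,6,4,7,3,1,3,8,3,6,0,6,2,8,3,7,4,3,8,0,8,1,2,6,3,8,1,4,7,3,1,0,2,1,0,2,3,6,0,2,7,4,3,2,0,1,2,3,7,4,3,2,7,4,3,7,4,3,4,5,7,0,8,1,2,6,3,8,1,4,7,3,1,0,2,1,0,2,3,6,0,2,7,4,3,2,0,1,2,3,7,4,3,2,7,4,3,7,4,8,7,2,3,4,5,6,7,3,8,0,8,1,2,6,3,8,1,4,7,3,1,0,2,1,0,2,3,6,0,2,7,4,3,2,0,1,2,3,7,4,3,2,7,4,3,7,4,5,4,3,2,8,7,1,2,3,4,5,6,7,3,2,4,3,8,7,3,2,4,0,1],[1,2,4,8,48,16]),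
  ([4,1,2,1,3,1,3,4,3,1,4,0,7,8,7,1,8,2,8,3,2,4,8,2,5,6,0,2,0,7,5,1,3,0,2,5,1,0,4,1,4,6,0,3,5,3,4,1,0,3,6,4,7,3,1,3,8,3,6,0,6,2,8,3,7,4,3,7,4,1,2,1,3,1,3,4,3,1,4,0,7,8,7,1,8,2,8,3,2,4,8,2,5,6,0,2,0,7,5,1,3,0,2,5,1,0,4,1,4,6,0,3,5,3,4,1,0,3,6,4,7,3,1,3,8,3,6,0,6,2,8,3,7,4,3,7,5,4,1,2,1,3,1,3,4,3,1,4,0,7,8,7,1,8,2,8,3,2,4,8,2,5,6,0,2,0,7,5,1,3,0,2,5,1,0,4,1,4,6,0,3,5,3,4,1,0,3,6,4,7,3,1,3,8,3,6,0,6,2,8,3,7,4,3,7,4,1,2,1,3,1,3,4,3,1,4,0,7,8,7,1,8,2,8,3,2,4,8,2,5,6,0,2,0,7,5,1,3,0,2,5,1,0,4,1,4,6,0,3,5,3,4,1,0,3,6,4,7,3,1,3,8,3,6,0,6,2,8,3,7,4,3,7,4,5,7,8,0,8,1,2,6,3,8,1,4,7,3,1,0,2,1,0,2,3,6,0,2,7,4,3,2,0,1,2,3,7,4,3,2,7,4,3,7,4,5,4,8,3,4,5,6,7,3,4,8,0,8,1,2,6,3,8,1,4,7,3,1,0,2,1,0,2,3,6,0,2,7,4,3,2,0,1,2,3,7,4,3,2,7,4,3,7,4,5,4,3,8,7,0,2,3,4,5,6,0,8,1,2,6,3,8,1,4,7,3,1,0,2,1,0,2,3,6,0,2,7,4,3,2,0,1,2,3,7,4,3,2,7,4,3,7,4,5,8,7,3,0,8,1,2,6,3,8,1,4,7,3,1,0,2,1,0,2,3,6,0,2,7,4,3,2,0,1,2,3,7,4,3,2,7,4,3,7,4,8,7],[1,2,4,8,16,48])]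

/-- orbit chain on the 64 vectors -/
def vecChain : List (Nat × List Nat × List (Nat × Nat × Nat)) := [(1,[0,1],[(43,0,0),(39,0,1),(53,1,0),(58,1,1),(55,2,0),(4,2,1),(61,3,0),(23,3,1),(62,4,0),(12,4,1),(21,5,1),(37,6,0),(3,6,1),(26,7,0),(42,7,1),(27,9,0),(15,9,1),(2,10,0),(46,11,0),(29,12,0),(6,12,1),(45,14,0),(30,15,0),(9,16,1),(59,19,0),(8,20,1)]),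
  (4,[2,3],[(55,0,0),(12,0,1),(30,1,0),(62,1,1),(53,2,0),(39,3,1),(29,4,0),(23,5,0),(37,5,1),(46,6,0),(6,6,1),(61,7,1),(15,8,0),(45,10,0),(21,12,0)]),
  (2,[4],[(58,0,0),(26,1,0),(42,2,0),(8,3,0)]),
  (8,[5],[(42,0,0),(58,1,0),(26,2,0)]),
  (16,[6],[(48,0,0),(32,1,0)]),
  (32,[7],[(48,0,0)])]

/-- unit vectors as sums of singular vectors -/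
def unitSum : List (List Nat) := [[1],
  [2],
  [4],
  [8],
  [37,53],
  [21,53]]

end Cfsg.Agent.H50.M22Outer
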