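import Mathlib.Data.List.Basic

/-! Members of the fixed subgroups: E8 and E7 tuples, classes and witnesses. -/

set_option autoImplicit false
set_option maxRecDepth 100000

namespace Cfsg.Agent.H50.M22Outer

/-- paths to an E8 tuple -/
def e8Paths : List (List Nat) := [[1,2,3,4,5,6,7,3,2,1,4,3,2,5,8,7,3,2,1,4,3,2,5,6,7,3,4,5,8],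
  [1,2,3,4,5,6,7,3,2,1,4,5,8,7,3,2,1,4,3,2,5,4,7,3,2,1,4,5,8],
  [1,2,3,4,5,6,7,3,2,1,4,3,5,7,8,7,3,2,1,4,3,2,5,4,7,3,8,7],
  [1,0,2,3,4,5,7,3,8],
  [1,2,3,4,5,6,7,3,2,1,4,3,2,5,4,8,7,3,2,1,0,4,3,2,5,4,3,7,3,2,8,7],
  [1,2,3,4,5,6,7,3,2,1,4,3,2,5,4,8,7,3,2,1,0,4,3,2,5,4,7,3,4],
  [1,0,2,3,4,5,7,3,2,4,3,7,8,7],
  [1,2,3,4,5,6,7,3,2,1,4,3,2,5,8,7,3,2,1,4,3,2,5,4,7,3,4,8,7,3,2,1]]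

/-- paths to an E7 tuple -/
def e7Paths : List (List Nat) := [[1,2,3,4,5,6,7,3,2,1,4,3,2,5,4,8,7,3,2,1,0,4,3,2,5,7,3,4,8,7],
  [1,2,3,4,5,6,7,3,2,1,4,3,2,5,4,8,7,3,2,1,0,4,3,5,4,7,3,2,8,7],
  [1,2,3,4,5,6,7,3,2,1,4,5,8,7,3,2,1,0,4,3,2,5,4,6,7,3,8,7],
  [1,2,3,4,5,6,7,3,2,1,4,5,8,7,3,2,1,4,5],
  [1,2,3,4,5,6,7,3,2,1,4,5,8,7,3],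
  [1,0,2,3,4,5,7,3,2,4,8,7],
  [1,2,3,4,5,6,7,3,2,1,4,5,8,7,3,2,1,4,3,2,5,4,7,3,2,1,4,8,7,3,2]]

/-- paths to the points fixed by the symmetry -/
def fixPaths : List (List Nat) := [[1,0,2,1,3,2],
  [1,0,2,1,3,4],
  [1,0,2,3,4,5],
  [1,2,3,4,5,6],
  [1,0,2,1,3,2,7],
  [1,0,2,1,3,4,7],
  [1,0,2,3,4,5,7],
  [1,2,3,4,5,6,7],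
  [1,0,2,1,3,2,7,3],
  [1,0,2,1,3,2,7,8],
  [1,0,2,1,3,4,7,3],
  [1,0,2,1,3,4,7,8],
  [1,0,2,3,4,5,7,3],
  [1,0,2,3,4,5,7,8],
  [1,2,3,4,5,6,7,3],
  [1,2,3,4,5,6,7,8],
  [1,0,2,1,3,2,7,3,8],
  [1,0,2,1,3,4,7,3,8],
  [1,0,2,3,4,5,7,3,8],
  [1,2,3,4,5,6,7,3,8],
  [1,0,2,1,3,2,7,3,8,7],
  [1,0,2,1,3,4,7,3,8,7],
  [1,0,2,3,4,5,7,3,2,4],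
  [1,0,2,3,4,5,7,3,8,7],
  [1,2,3,4,5,6,7,3,2,4],
  [1,2,3,4,5,6,7,3,8,7],
  [1,0,2,3,4,5,7,3,2,4,3],
  [1,0,2,3,4,5,7,3,2,4,8],
  [1,2,3,4,5,6,7,3,2,4,3],
  [1,2,3,4,5,6,7,3,2,4,8],
  [1,0,2,3,4,5,7,3,2,4,3,7],
  [1,0,2,3,4,5,7,3,2,4,3,8],
  [1,0,2,3,4,5,7,3,2,4,8,7],
  [1,2,3,4,5,6,7,3,2,1,4,5],
  [1,2,3,4,5,6,7,3,2,4,3,7],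
  [1,2,3,4,5,6,7,3,2,4,3,8],
  [1,2,3,4,5,6,7,3,2,4,8,7],
  [1,0,2,3,4,5,7,3,2,4,3,7,8],
  [1,0,2,3,4,5,7,3,2,4,3,8,7],
  [1,0,2,3,4,5,7,3,2,4,8,7,3],
  [1,2,3,4,5,6,7,3,2,1,4,3,5],
  [1,2,3,4,5,6,7,3,2,1,4,5,8],
  [1,2,3,4,5,6,7,3,2,4,3,7,8],
  [1,2,3,4,5,6,7,3,2,4,3,8,7],
  [1,2,3,4,5,6,7,3,2,4,8,7,3],
  [1,0,2,3,4,5,7,3,2,4,3,7,8,7],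
  [1,0,2,3,4,5,7,3,2,4,3,8,7,3],
  [1,2,3,4,5,6,7,3,2,1,4,3,5,7],
  [1,2,3,4,5,6,7,3,2,1,4,3,5,8],
  [1,2,3,4,5,6,7,3,2,1,4,5,8,7],
  [1,2,3,4,5,6,7,3,2,4,3,7,8,7],
  [1,2,3,4,5,6,7,3,2,4,3,8,7,3],
  [1,0,2,3,4,5,7,3,2,4,3,7,8,7,3],
  [1,0,2,3,4,5,7,3,2,4,8,7,3,2,4],
  [1,2,3,4,5,6,7,3,2,1,4,3,2,5,4],
  [1,2,3,4,5,6,7,3,2,1,4,3,5,7,8],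
  [1,2,3,4,5,6,7,3,2,1,4,3,5,8,7],
  [1,2,3,4,5,6,7,3,2,1,4,5,8,7,3],
  [1,2,3,4,5,6,7,3,2,4,3,7,8,7,3],
  [1,2,3,4,5,6,7,3,2,4,8,7,3,2,4],
  [1,0,2,3,4,5,7,3,2,4,3,8,7,3,2,4],
  [1,2,3,4,5,6,7,3,2,1,4,3,2,5,4,3],
  [1,2,3,4,5,6,7,3,2,1,4,3,2,5,4,7],
  [1,2,3,4,5,6,7,3,2,1,4,3,2,5,4,8],
  [1,2,3,4,5,6,7,3,2,1,4,3,5,7,8,7],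
  [1,2,3,4,5,6,7,3,2,1,4,3,5,8,7,3],
  [1,2,3,4,5,6,7,3,2,4,3,8,7,3,2,4],
  [1,0,2,3,4,5,7,3,2,4,3,7,8,7,3,2,4],
  [1,0,2,3,4,5,7,3,2,4,3,8,7,3,2,4,3],
  [1,0,2,3,4,5,7,3,2,4,8,7,3,2,1,4,5],
  [1,2,3,4,5,6,7,3,2,1,4,3,2,5,4,3,8],
  [1,2,3,4,5,6,7,3,2,1,4,3,2,5,4,7,8],
  [1,2,3,4,5,6,7,3,2,1,4,3,2,5,4,8,7],
  [1,2,3,4,5,6,7,3,2,1,4,3,5,7,8,7,3],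
  [1,2,3,4,5,6,7,3,2,1,4,5,8,7,3,2,4],
  [1,2,3,4,5,6,7,3,2,4,3,7,8,7,3,2,4],
  [1,2,3,4,5,6,7,3,2,4,3,8,7,3,2,4,3],
  [1,2,3,4,5,6,7,3,2,4,8,7,3,2,1,4,5],
  [1,0,2,3,4,5,7,3,2,4,3,7,8,7,3,2,4,3],
  [1,2,3,4,5,6,7,3,2,1,4,3,2,5,4,3,8,7],
  [1,2,3,4,5,6,7,3,2,1,4,3,2,5,4,7,8,7],
  [1,2,3,4,5,6,7,3,2,1,4,3,2,5,4,8,7,3],
  [1,2,3,4,5,6,7,3,2,1,4,3,5,8,7,3,2,4],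
  [1,2,3,4,5,6,7,3,2,1,4,5,8,7,3,2,4,3],
  [1,2,3,4,5,6,7,3,2,4,3,7,8,7,3,2,4,3],
  [1,2,3,4,5,6,7,3,2,4,3,8,7,3,2,1,4,5],
  [1,0,2,3,4,5,7,3,2,4,8,7,3,2,1,0,4,5,6],
  [1,2,3,4,5,6,7,3,2,1,4,3,2,5,4,3,8,7,3],
  [1,2,3,4,5,6,7,3,2,1,4,3,2,5,4,7,8,7,3],
  [1,2,3,4,5,6,7,3,2,1,4,3,5,7,8,7,3,2,4],
  [1,2,3,4,5,6,7,3,2,1,4,3,5,8,7,3,2,4,3],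
  [1,2,3,4,5,6,7,3,2,1,4,5,8,7,3,2,1,4,5],
  [1,2,3,4,5,6,7,3,2,1,4,5,8,7,3,2,4,3,7],
  [1,2,3,4,5,6,7,3,2,4,3,7,8,7,3,2,1,4,5],
  [1,2,3,4,5,6,7,3,2,4,3,8,7,3,2,1,4,3,5],
  [1,2,3,4,5,6,7,3,2,4,8,7,3,2,1,0,4,5,6],
  [1,2,3,4,5,6,7,3,2,1,4,3,2,5,4,8,7,3,2,4],
  [1,2,3,4,5,6,7,3,2,1,4,3,5,7,8,7,3,2,4,3],
  [1,2,3,4,5,6,7,3,2,1,4,3,5,8,7,3,2,1,4,5],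
  [1,2,3,4,5,6,7,3,2,1,4,3,5,8,7,3,2,4,3,7],
  [1,2,3,4,5,6,7,3,2,1,4,5,8,7,3,2,1,4,3,5],
  [1,2,3,4,5,6,7,3,2,1,4,5,8,7,3,2,4,3,7,8],
  [1,2,3,4,5,6,7,3,2,4,3,7,8,7,3,2,1,4,3,5],
  [1,2,3,4,5,6,7,3,2,1,4,3,2,5,4,3,8,7,3,2,4],
  [1,2,3,4,5,6,7,3,2,1,4,3,2,5,4,7,8,7,3,2,4],
  [1,2,3,4,5,6,7,3,2,1,4,3,2,5,4,8,7,3,2,4,3],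
  [1,2,3,4,5,6,7,3,2,1,4,3,5,7,8,7,3,2,1,4,5],
  [1,2,3,4,5,6,7,3,2,1,4,3,5,7,8,7,3,2,4,3,7],
  [1,2,3,4,5,6,7,3,2,1,4,3,5,8,7,3,2,1,4,3,5],
  [1,2,3,4,5,6,7,3,2,1,4,3,5,8,7,3,2,4,3,7,8],
  [1,2,3,4,5,6,7,3,2,1,4,5,8,7,3,2,1,0,4,5,6],
  [1,2,3,4,5,6,7,3,2,1,4,5,8,7,3,2,1,4,3,5,7],
  [1,2,3,4,5,6,7,3,2,4,3,8,7,3,2,1,4,3,2,5,4],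
  [1,2,3,4,5,6,7,3,2,1,4,3,2,5,4,3,8,7,3,2,4,3],
  [1,2,3,4,5,6,7,3,2,1,4,3,2,5,4,7,8,7,3,2,4,3],
  [1,2,3,4,5,6,7,3,2,1,4,3,2,5,4,8,7,3,2,1,4,5],
  [1,2,3,4,5,6,7,3,2,1,4,3,2,5,4,8,7,3,2,4,3,7],
  [1,2,3,4,5,6,7,3,2,1,4,3,5,7,8,7,3,2,1,4,3,5],
  [1,2,3,4,5,6,7,3,2,1,4,3,5,7,8,7,3,2,4,3,7,8],
  [1,2,3,4,5,6,7,3,2,1,4,3,5,8,7,3,2,1,0,4,5,6],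
  [1,2,3,4,5,6,7,3,2,1,4,3,5,8,7,3,2,1,4,3,5,7],
  [1,2,3,4,5,6,7,3,2,1,4,5,8,7,3,2,1,0,4,3,5,6],
  [1,2,3,4,5,6,7,3,2,1,4,5,8,7,3,2,1,4,3,2,5,4],
  [1,2,3,4,5,6,7,3,2,1,4,5,8,7,3,2,1,4,3,5,7,8],
  [1,2,3,4,5,6,7,3,2,4,3,8,7,3,2,1,4,3,2,5,4,3],
  [1,2,3,4,5,6,7,3,2,1,4,3,2,5,4,3,8,7,3,2,1,4,5],
  [1,2,3,4,5,6,7,3,2,1,4,3,2,5,4,3,8,7,3,2,4,3,7],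
  [1,2,3,4,5,6,7,3,2,1,4,3,2,5,4,7,8,7,3,2,1,4,5],
  [1,2,3,4,5,6,7,3,2,1,4,3,2,5,4,7,8,7,3,2,4,3,7],
  [1,2,3,4,5,6,7,3,2,1,4,3,2,5,4,8,7,3,2,1,4,3,5],
  [1,2,3,4,5,6,7,3,2,1,4,3,2,5,4,8,7,3,2,4,3,7,8],
  [1,2,3,4,5,6,7,3,2,1,4,3,5,7,8,7,3,2,1,4,3,5,7],
  [1,2,3,4,5,6,7,3,2,1,4,3,5,8,7,3,2,1,0,4,3,5,6],
  [1,2,3,4,5,6,7,3,2,1,4,3,5,8,7,3,2,1,4,3,2,5,4],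
  [1,2,3,4,5,6,7,3,2,1,4,3,5,8,7,3,2,1,4,3,5,7,8],
  [1,2,3,4,5,6,7,3,2,1,4,5,8,7,3,2,1,0,4,3,5,6,7],
  [1,2,3,4,5,6,7,3,2,1,4,5,8,7,3,2,1,4,3,2,5,4,7],
  [1,2,3,4,5,6,7,3,2,1,8,7,3,2,4,3,5,4,7,3,2,1,0],
  [1,2,3,4,5,6,7,3,2,4,3,8,7,3,2,1,4,3,2,5,4,3,7],
  [1,2,3,4,5,6,7,3,2,1,4,3,2,5,4,3,8,7,3,2,1,4,3,5],
  [1,2,3,4,5,6,7,3,2,1,4,3,2,5,4,3,8,7,3,2,4,3,7,8],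
  [1,2,3,4,5,6,7,3,2,1,4,3,2,5,4,7,8,7,3,2,1,4,3,5],
  [1,2,3,4,5,6,7,3,2,1,4,3,2,5,4,7,8,7,3,2,4,3,7,8],
  [1,2,3,4,5,6,7,3,2,1,4,3,2,5,4,8,7,3,2,1,0,4,5,6],
  [1,2,3,4,5,6,7,3,2,1,4,3,2,5,4,8,7,3,2,1,4,3,5,7],
  [1,2,3,4,5,6,7,3,2,1,4,3,5,7,8,7,3,2,1,4,3,2,5,4],
  [1,2,3,4,5,6,7,3,2,1,4,3,5,7,8,7,3,2,1,4,3,5,7,8],
  [1,2,3,4,5,6,7,3,2,1,4,3,5,8,7,3,2,1,0,4,3,5,6,7],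
  [1,2,3,4,5,6,7,3,2,1,4,3,5,8,7,3,2,1,4,3,2,5,4,3],
  [1,2,3,4,5,6,7,3,2,1,4,3,5,8,7,3,2,1,4,3,2,5,4,7],
  [1,2,3,4,5,6,7,3,2,1,4,5,8,7,3,2,1,0,4,3,2,5,4,6],
  [1,2,3,4,5,6,7,3,2,1,4,5,8,7,3,2,1,0,4,3,5,6,7,8],
  [1,2,3,4,5,6,7,3,2,1,4,5,8,7,3,2,1,4,3,2,5,4,7,3],
  [1,2,3,4,5,6,7,3,2,1,4,5,8,7,3,2,1,4,3,2,5,4,7,8],
  [1,2,3,4,5,6,7,3,2,1,4,8,7,3,2,4,3,5,4,7,3,2,1,0],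
  [1,2,3,4,5,6,7,3,2,4,3,8,7,3,2,1,4,3,2,5,4,3,7,8],
  [1,2,3,4,5,6,7,3,2,1,4,3,2,5,4,3,8,7,3,2,1,0,4,5,6],
  [1,2,3,4,5,6,7,3,2,1,4,3,2,5,4,3,8,7,3,2,1,4,3,5,7],
  [1,2,3,4,5,6,7,3,2,1,4,3,2,5,4,7,8,7,3,2,1,4,3,5,7],
  [1,2,3,4,5,6,7,3,2,1,4,3,2,5,4,8,7,3,2,1,0,4,3,5,6],
  [1,2,3,4,5,6,7,3,2,1,4,3,2,5,4,8,7,3,2,1,4,3,2,5,4],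
  [1,2,3,4,5,6,7,3,2,1,4,3,2,5,4,8,7,3,2,1,4,3,5,7,8],
  [1,2,3,4,5,6,7,3,2,1,4,3,5,7,8,7,3,2,1,4,3,2,5,4,3],
  [1,2,3,4,5,6,7,3,2,1,4,3,5,7,8,7,3,2,1,4,3,2,5,4,7],
  [1,2,3,4,5,6,7,3,2,1,4,3,5,8,7,3,2,1,0,4,3,5,6,7,8],
  [1,2,3,4,5,6,7,3,2,1,4,3,5,8,7,3,2,1,4,3,2,5,4,3,7],
  [1,2,3,4,5,6,7,3,2,1,4,3,5,8,7,3,2,1,4,3,2,5,4,7,3],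
  [1,2,3,4,5,6,7,3,2,1,4,3,5,8,7,3,2,1,4,3,2,5,4,7,8],
  [1,2,3,4,5,6,7,3,2,1,4,5,8,7,3,2,1,0,4,3,2,5,4,6,7],
  [1,2,3,4,5,6,7,3,2,1,4,5,8,7,3,2,1,4,3,2,5,4,7,3,8],
  [1,2,3,4,5,6,7,3,2,1,4,5,8,7,3,2,1,4,3,2,7,3,4,5,6],
  [1,2,3,4,5,6,7,3,2,1,4,3,2,5,4,3,8,7,3,2,1,0,4,3,2,1],
  [1,2,3,4,5,6,7,3,2,1,4,3,2,5,4,3,8,7,3,2,1,0,4,3,2,5],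
  [1,2,3,4,5,6,7,3,2,1,4,3,2,5,4,3,8,7,3,2,1,0,4,3,5,4],
  [1,2,3,4,5,6,7,3,2,1,4,3,2,5,4,3,8,7,3,2,1,0,4,3,5,6],
  [1,2,3,4,5,6,7,3,2,1,4,3,2,5,4,3,8,7,3,2,1,4,3,5,7,8],
  [1,2,3,4,5,6,7,3,2,1,4,3,2,5,4,7,8,7,3,2,1,4,3,2,5,4],
  [1,2,3,4,5,6,7,3,2,1,4,3,2,5,4,7,8,7,3,2,1,4,3,5,7,8],
  [1,2,3,4,5,6,7,3,2,1,4,3,2,5,4,8,7,3,2,1,0,4,3,5,6,7],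
  [1,2,3,4,5,6,7,3,2,1,4,3,2,5,4,8,7,3,2,1,4,3,2,5,4,3],
  [1,2,3,4,5,6,7,3,2,1,4,3,2,5,4,8,7,3,2,1,4,3,2,5,4,7],
  [1,2,3,4,5,6,7,3,2,1,4,3,2,5,7,3,8,7,3,2,1,0,4,3,2,1],
  [1,2,3,4,5,6,7,3,2,1,4,3,5,7,8,7,3,2,1,4,3,2,5,4,3,7],
  [1,2,3,4,5,6,7,3,2,1,4,3,5,7,8,7,3,2,1,4,3,2,5,4,7,3],
  [1,2,3,4,5,6,7,3,2,1,4,3,5,7,8,7,3,2,1,4,3,2,5,4,7,8],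
  [1,2,3,4,5,6,7,3,2,1,4,3,5,8,7,3,2,1,4,3,2,5,4,3,7,3],
  [1,2,3,4,5,6,7,3,2,1,4,3,5,8,7,3,2,1,4,3,2,5,4,3,7,8],
  [1,2,3,4,5,6,7,3,2,1,4,3,5,8,7,3,2,1,4,3,2,5,4,7,3,8],
  [1,2,3,4,5,6,7,3,2,1,4,3,8,7,3,2,1,4,3,5,4,7,3,2,1,0],
  [1,2,3,4,5,6,7,3,2,1,4,5,8,7,3,2,1,0,4,3,2,5,4,6,7,3],
  [1,2,3,4,5,6,7,3,2,1,4,5,8,7,3,2,1,0,4,3,2,5,4,6,7,8],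
  [1,2,3,4,5,6,7,3,2,1,4,5,8,7,3,2,1,4,3,2,5,4,7,3,2,4],
  [1,2,3,4,5,6,7,3,2,1,4,5,8,7,3,2,1,4,3,2,5,4,7,3,8,7],
  [1,2,3,4,5,6,7,3,2,1,4,5,8,7,3,2,1,4,3,2,7,3,4,5,6,8],
  [1,2,3,4,5,6,7,3,2,1,4,3,2,5,4,3,8,7,3,2,1,0,4,3,2,1,7],
  [1,2,3,4,5,6,7,3,2,1,4,3,2,5,4,3,8,7,3,2,1,0,4,3,2,5,7],
  [1,2,3,4,5,6,7,3,2,1,4,3,2,5,4,3,8,7,3,2,1,0,4,3,5,4,7],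
  [1,2,3,4,5,6,7,3,2,1,4,3,2,5,4,3,8,7,3,2,1,0,4,3,5,6,7],
  [1,2,3,4,5,6,7,3,2,1,4,3,2,5,4,7,8,7,3,2,1,4,3,2,5,4,3],
  [1,2,3,4,5,6,7,3,2,1,4,3,2,5,4,7,8,7,3,2,1,4,3,2,5,4,7],
  [1,2,3,4,5,6,7,3,2,1,4,3,2,5,4,8,7,3,2,1,0,4,3,2,5,4,6],
  [1,2,3,4,5,6,7,3,2,1,4,3,2,5,4,8,7,3,2,1,0,4,3,5,6,7,8],
  [1,2,3,4,5,6,7,3,2,1,4,3,2,5,4,8,7,3,2,1,4,3,2,5,4,3,7],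
  [1,2,3,4,5,6,7,3,2,1,4,3,2,5,4,8,7,3,2,1,4,3,2,5,4,7,3],
  [1,2,3,4,5,6,7,3,2,1,4,3,2,5,4,8,7,3,2,1,4,3,2,5,4,7,8],
  [1,2,3,4,5,6,7,3,2,1,4,3,2,5,7,3,8,7,3,2,1,0,4,3,2,1,7],
  [1,2,3,4,5,6,7,3,2,1,4,3,5,7,8,7,3,2,1,4,3,2,5,4,3,7,3],
  [1,2,3,4,5,6,7,3,2,1,4,3,5,7,8,7,3,2,1,4,3,2,5,4,3,7,8],
  [1,2,3,4,5,6,7,3,2,1,4,3,5,7,8,7,3,2,1,4,3,2,5,4,7,3,8],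
  [1,2,3,4,5,6,7,3,2,1,4,3,5,8,7,3,2,1,4,3,2,5,4,3,7,3,8],
  [1,2,3,4,5,6,7,3,2,1,4,3,5,8,7,3,2,1,4,3,2,5,4,7,3,2,4],
  [1,2,3,4,5,6,7,3,2,1,4,3,5,8,7,3,2,1,4,3,2,5,4,7,3,8,7],
  [1,2,3,4,5,6,7,3,2,1,4,3,5,8,7,3,2,1,4,3,2,5,7,3,4,5,6],
  [1,2,3,4,5,6,7,3,2,1,4,3,8,7,3,2,1,4,3,2,5,4,7,3,2,1,0],
  [1,2,3,4,5,6,7,3,2,1,4,5,8,7,3,2,1,0,4,3,2,5,4,6,7,3,8],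
  [1,2,3,4,5,6,7,3,2,1,4,5,8,7,3,2,1,4,3,2,5,4,7,3,2,4,8],
  [1,2,3,4,5,6,7,3,2,1,4,3,2,5,4,3,8,7,3,2,1,0,4,3,2,1,7,3],
  [1,2,3,4,5,6,7,3,2,1,4,3,2,5,4,3,8,7,3,2,1,0,4,3,2,1,7,8],
  [1,2,3,4,5,6,7,3,2,1,4,3,2,5,4,3,8,7,3,2,1,0,4,3,2,5,7,3],
  [1,2,3,4,5,6,7,3,2,1,4,3,2,5,4,3,8,7,3,2,1,0,4,3,2,5,7,8],
  [1,2,3,4,5,6,7,3,2,1,4,3,2,5,4,3,8,7,3,2,1,0,4,3,5,4,7,3],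
  [1,2,3,4,5,6,7,3,2,1,4,3,2,5,4,3,8,7,3,2,1,0,4,3,5,4,7,8],
  [1,2,3,4,5,6,7,3,2,1,4,3,2,5,4,3,8,7,3,2,1,0,4,3,5,6,7,8],
  [1,2,3,4,5,6,7,3,2,1,4,3,2,5,4,7,8,7,3,2,1,4,3,2,5,4,3,7],
  [1,2,3,4,5,6,7,3,2,1,4,3,2,5,4,7,8,7,3,2,1,4,3,2,5,4,7,3],
  [1,2,3,4,5,6,7,3,2,1,4,3,2,5,4,7,8,7,3,2,1,4,3,2,5,4,7,8],
  [1,2,3,4,5,6,7,3,2,1,4,3,2,5,4,8,7,3,2,1,0,4,3,2,5,4,3,6],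
  [1,2,3,4,5,6,7,3,2,1,4,3,2,5,4,8,7,3,2,1,0,4,3,2,5,4,6,7],
  [1,2,3,4,5,6,7,3,2,1,4,3,2,5,4,8,7,3,2,1,0,4,3,2,5,7,3,4],
  [1,2,3,4,5,6,7,3,2,1,4,3,2,5,4,8,7,3,2,1,0,4,3,5,4,7,3,2],
  [1,2,3,4,5,6,7,3,2,1,4,3,2,5,4,8,7,3,2,1,4,3,2,5,4,3,7,3],
  [1,2,3,4,5,6,7,3,2,1,4,3,2,5,4,8,7,3,2,1,4,3,2,5,4,3,7,8],
  [1,2,3,4,5,6,7,3,2,1,4,3,2,5,4,8,7,3,2,1,4,3,2,5,4,7,3,8],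
  [1,2,3,4,5,6,7,3,2,1,4,3,2,5,7,3,8,7,3,2,1,0,4,3,2,1,7,3],
  [1,2,3,4,5,6,7,3,2,1,4,3,2,5,7,3,8,7,3,2,1,0,4,3,2,1,7,8],
  [1,2,3,4,5,6,7,3,2,1,4,3,2,5,7,8,7,3,2,1,0,4,3,2,5,7,3,4],
  [1,2,3,4,5,6,7,3,2,1,4,3,2,5,8,7,3,2,1,4,3,2,5,6,7,3,4,5],
  [1,2,3,4,5,6,7,3,2,1,4,3,5,7,8,7,3,2,1,4,3,2,5,4,3,7,3,8],
  [1,2,3,4,5,6,7,3,2,1,4,3,5,7,8,7,3,2,1,4,3,2,5,4,7,3,2,4],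
  [1,2,3,4,5,6,7,3,2,1,4,3,5,7,8,7,3,2,1,4,3,2,5,4,7,3,8,7],
  [1,2,3,4,5,6,7,3,2,1,4,3,5,8,7,3,2,1,4,3,2,5,4,3,7,3,2,4],
  [1,2,3,4,5,6,7,3,2,1,4,3,5,8,7,3,2,1,4,3,2,5,4,3,7,3,8,7],
  [1,2,3,4,5,6,7,3,2,1,4,3,5,8,7,3,2,1,4,3,2,5,4,7,3,2,1,0],
  [1,2,3,4,5,6,7,3,2,1,4,3,5,8,7,3,2,1,4,3,2,5,4,7,3,2,4,8],
  [1,2,3,4,5,6,7,3,2,1,4,3,5,8,7,3,2,1,4,3,2,5,7,3,4,5,6,8],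
  [1,2,3,4,5,6,7,3,2,1,4,3,8,7,3,2,1,4,3,2,5,4,3,7,3,2,1,0],
  [1,2,3,4,5,6,7,3,2,1,4,5,8,7,3,2,1,0,4,3,2,5,4,6,7,3,8,7],
  [1,2,3,4,5,6,7,3,2,1,4,5,8,7,3,2,1,4,3,2,5,4,7,3,2,1,4,5],
  [1,2,3,4,5,6,7,3,2,1,4,5,8,7,3,2,1,4,3,2,5,4,7,3,2,4,8,7],
  [1,2,3,4,5,6,7,3,2,1,4,3,2,5,4,3,8,7,3,2,1,0,4,3,2,1,7,3,8],
  [1,2,3,4,5,6,7,3,2,1,4,3,2,5,4,3,8,7,3,2,1,0,4,3,2,5,7,3,8],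
  [1,2,3,4,5,6,7,3,2,1,4,3,2,5,4,3,8,7,3,2,1,0,4,3,5,4,7,3,8],
  [1,2,3,4,5,6,7,3,2,1,4,3,2,5,4,7,8,7,3,2,1,4,3,2,5,4,3,7,3],
  [1,2,3,4,5,6,7,3,2,1,4,3,2,5,4,7,8,7,3,2,1,4,3,2,5,4,3,7,8],
  [1,2,3,4,5,6,7,3,2,1,4,3,2,5,4,7,8,7,3,2,1,4,3,2,5,4,7,3,8],
  [1,2,3,4,5,6,7,3,2,1,4,3,2,5,4,8,7,3,2,1,0,4,3,2,5,4,3,6,7],
  [1,2,3,4,5,6,7,3,2,1,4,3,2,5,4,8,7,3,2,1,0,4,3,2,5,4,6,7,3],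
  [1,2,3,4,5,6,7,3,2,1,4,3,2,5,4,8,7,3,2,1,0,4,3,2,5,4,6,7,8],
  [1,2,3,4,5,6,7,3,2,1,4,3,2,5,4,8,7,3,2,1,0,4,3,2,5,4,7,3,2],
  [1,2,3,4,5,6,7,3,2,1,4,3,2,5,4,8,7,3,2,1,0,4,3,2,5,4,7,3,4],
  [1,2,3,4,5,6,7,3,2,1,4,3,2,5,4,8,7,3,2,1,0,4,3,2,5,7,3,4,8],
  [1,2,3,4,5,6,7,3,2,1,4,3,2,5,4,8,7,3,2,1,0,4,3,5,4,7,3,2,8],
  [1,2,3,4,5,6,7,3,2,1,4,3,2,5,4,8,7,3,2,1,4,3,2,5,4,3,7,3,8],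
  [1,2,3,4,5,6,7,3,2,1,4,3,2,5,4,8,7,3,2,1,4,3,2,5,4,7,3,8,7],
  [1,2,3,4,5,6,7,3,2,1,4,3,2,5,7,3,8,7,3,2,1,0,4,3,2,1,7,3,8],
  [1,2,3,4,5,6,7,3,2,1,4,3,2,5,7,8,7,3,2,1,0,4,3,2,5,4,7,3,4],
  [1,2,3,4,5,6,7,3,2,1,4,3,2,5,7,8,7,3,2,1,0,4,3,2,5,7,3,4,8],
  [1,2,3,4,5,6,7,3,2,1,4,3,2,5,8,7,3,2,1,4,3,2,5,4,6,7,3,4,5],
  [1,2,3,4,5,6,7,3,2,1,4,3,2,5,8,7,3,2,1,4,3,2,5,6,7,3,4,5,8],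
  [1,2,3,4,5,6,7,3,2,1,4,3,5,7,8,7,3,2,1,4,3,2,5,4,3,7,3,8,7],
  [1,2,3,4,5,6,7,3,2,1,4,3,5,7,8,7,3,2,1,4,3,2,5,4,7,3,2,4,8],
  [1,2,3,4,5,6,7,3,2,1,4,3,5,8,7,3,2,1,4,3,2,5,4,3,7,3,2,1,0],
  [1,2,3,4,5,6,7,3,2,1,4,3,5,8,7,3,2,1,4,3,2,5,4,3,7,3,2,4,8],
  [1,2,3,4,5,6,7,3,2,1,4,3,5,8,7,3,2,1,4,3,2,5,4,7,3,2,1,0,8],
  [1,2,3,4,5,6,7,3,2,1,4,3,5,8,7,3,2,1,4,3,2,5,4,7,3,2,1,4,5],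
  [1,2,3,4,5,6,7,3,2,1,4,3,5,8,7,3,2,1,4,3,2,5,4,7,3,2,4,8,7],
  [1,2,3,4,5,6,7,3,2,1,4,3,8,7,3,2,1,4,3,2,5,4,3,7,3,2,1,0,8],
  [1,2,3,4,5,6,7,3,2,1,4,5,8,7,3,2,1,4,3,2,5,4,7,3,2,1,4,5,8],
  [1,2,3,4,5,6,7,3,2,1,4,5,8,7,3,2,1,4,3,2,5,4,7,3,2,4,8,7,3],
  [1,2,3,4,5,6,7,3,2,1,4,3,2,5,4,3,8,7,3,2,1,0,4,3,2,1,7,3,8,7],
  [1,2,3,4,5,6,7,3,2,1,4,3,2,5,4,3,8,7,3,2,1,0,4,3,2,5,7,3,8,7],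
  [1,2,3,4,5,6,7,3,2,1,4,3,2,5,4,3,8,7,3,2,1,0,4,3,5,4,7,3,8,7],
  [1,2,3,4,5,6,7,3,2,1,4,3,2,5,4,7,8,7,3,2,1,4,3,2,5,4,3,7,3,8],
  [1,2,3,4,5,6,7,3,2,1,4,3,2,5,4,7,8,7,3,2,1,4,3,2,5,4,7,3,2,4],
  [1,2,3,4,5,6,7,3,2,1,4,3,2,5,4,7,8,7,3,2,1,4,3,2,5,4,7,3,8,7],
  [1,2,3,4,5,6,7,3,2,1,4,3,2,5,4,8,7,3,2,1,0,4,3,2,5,4,3,6,7,3],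
  [1,2,3,4,5,6,7,3,2,1,4,3,2,5,4,8,7,3,2,1,0,4,3,2,5,4,3,6,7,8],
  [1,2,3,4,5,6,7,3,2,1,4,3,2,5,4,8,7,3,2,1,0,4,3,2,5,4,3,7,3,2],
  [1,2,3,4,5,6,7,3,2,1,4,3,2,5,4,8,7,3,2,1,0,4,3,2,5,4,3,7,3,4],
  [1,2,3,4,5,6,7,3,2,1,4,3,2,5,4,8,7,3,2,1,0,4,3,2,5,4,6,7,3,8],
  [1,2,3,4,5,6,7,3,2,1,4,3,2,5,4,8,7,3,2,1,0,4,3,2,5,4,7,3,2,8],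
  [1,2,3,4,5,6,7,3,2,1,4,3,2,5,4,8,7,3,2,1,0,4,3,2,5,4,7,3,4,8],
  [1,2,3,4,5,6,7,3,2,1,4,3,2,5,4,8,7,3,2,1,0,4,3,2,5,7,3,4,8,7],
  [1,2,3,4,5,6,7,3,2,1,4,3,2,5,4,8,7,3,2,1,0,4,3,5,4,7,3,2,8,7],
  [1,2,3,4,5,6,7,3,2,1,4,3,2,5,4,8,7,3,2,1,4,3,2,5,4,3,7,3,8,7],
  [1,2,3,4,5,6,7,3,2,1,4,3,2,5,7,3,8,7,3,2,1,0,4,3,2,1,7,3,8,7],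
  [1,2,3,4,5,6,7,3,2,1,4,3,2,5,7,8,7,3,2,1,0,4,3,2,5,4,7,3,4,8],
  [1,2,3,4,5,6,7,3,2,1,4,3,2,5,7,8,7,3,2,1,0,4,3,2,5,7,3,4,8,7],
  [1,2,3,4,5,6,7,3,2,1,4,3,2,5,8,7,3,2,1,4,3,2,5,4,6,7,3,4,5,8],
  [1,2,3,4,5,6,7,3,2,1,4,3,2,5,8,7,3,2,1,4,3,2,5,4,7,3,2,4,5,6],
  [1,2,3,4,5,6,7,3,2,1,4,3,2,5,8,7,3,2,1,4,3,2,5,6,7,3,4,5,8,7],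
  [1,2,3,4,5,6,7,3,2,1,4,3,5,7,8,7,3,2,1,4,3,2,5,4,7,3,2,4,8,7],
  [1,2,3,4,5,6,7,3,2,1,4,3,5,8,7,3,2,1,4,3,2,5,4,3,7,3,2,1,0,8],
  [1,2,3,4,5,6,7,3,2,1,4,3,5,8,7,3,2,1,4,3,2,5,4,3,7,3,2,4,8,7],
  [1,2,3,4,5,6,7,3,2,1,4,3,5,8,7,3,2,1,4,3,2,5,4,7,3,2,1,0,8,7],
  [1,2,3,4,5,6,7,3,2,1,4,3,5,8,7,3,2,1,4,3,2,5,4,7,3,2,1,4,5,8],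
  [1,2,3,4,5,6,7,3,2,1,4,3,5,8,7,3,2,1,4,3,2,5,4,7,3,2,4,8,7,3],
  [1,2,3,4,5,6,7,3,2,1,4,5,8,7,3,2,1,4,3,2,5,4,7,3,2,1,4,5,8,7],
  [1,2,3,4,5,6,7,3,2,1,4,3,2,5,4,7,8,7,3,2,1,4,3,2,5,4,3,7,3,8,7],
  [1,2,3,4,5,6,7,3,2,1,4,3,2,5,4,7,8,7,3,2,1,4,3,2,5,4,7,3,2,4,8],
  [1,2,3,4,5,6,7,3,2,1,4,3,2,5,4,8,7,3,2,1,0,4,3,2,5,4,3,6,7,3,8],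
  [1,2,3,4,5,6,7,3,2,1,4,3,2,5,4,8,7,3,2,1,0,4,3,2,5,4,3,7,3,2,8],
  [1,2,3,4,5,6,7,3,2,1,4,3,2,5,4,8,7,3,2,1,0,4,3,2,5,4,3,7,3,4,8],
  [1,2,3,4,5,6,7,3,2,1,4,3,2,5,4,8,7,3,2,1,0,4,3,2,5,4,6,7,3,8,7],
  [1,2,3,4,5,6,7,3,2,1,4,3,2,5,4,8,7,3,2,1,0,4,3,2,5,4,7,3,2,8,7],
  [1,2,3,4,5,6,7,3,2,1,4,3,2,5,4,8,7,3,2,1,0,4,3,2,5,4,7,3,4,8,7],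
  [1,2,3,4,5,6,7,3,2,1,4,3,2,5,4,8,7,3,2,1,0,4,3,2,5,7,3,4,8,7,3],
  [1,2,3,4,5,6,7,3,2,1,4,3,2,5,4,8,7,3,2,1,0,4,3,5,4,7,3,2,8,7,3],
  [1,2,3,4,5,6,7,3,2,1,4,3,2,5,7,8,7,3,2,1,0,4,3,2,5,4,7,3,4,8,7],
  [1,2,3,4,5,6,7,3,2,1,4,3,2,5,7,8,7,3,2,1,0,4,3,2,5,7,3,4,8,7,3],
  [1,2,3,4,5,6,7,3,2,1,4,3,2,5,8,7,3,2,1,0,4,3,2,5,7,3,4,8,7,3,2],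
  [1,2,3,4,5,6,7,3,2,1,4,3,2,5,8,7,3,2,1,4,3,2,5,4,6,7,3,4,5,8,7],
  [1,2,3,4,5,6,7,3,2,1,4,3,2,5,8,7,3,2,1,4,3,2,5,4,7,3,2,4,5,6,8],
  [1,2,3,4,5,6,7,3,2,1,4,3,2,5,8,7,3,2,1,4,3,2,5,6,7,3,4,5,8,7,3],
  [1,2,3,4,5,6,7,3,2,1,4,3,2,5,8,7,3,2,1,4,3,2,5,6,7,3,4,8,7,3,2],
  [1,2,3,4,5,6,7,3,2,1,4,3,2,5,8,7,3,2,1,4,3,2,5,7,3,4,5,8,7,3,2],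
  [1,2,3,4,5,6,7,3,2,1,4,3,2,5,8,7,3,2,1,4,3,2,5,7,3,4,8,7,3,2,1],
  [1,2,3,4,5,6,7,3,2,1,4,3,5,7,8,7,3,2,1,4,3,2,5,4,7,3,2,4,8,7,3],
  [1,2,3,4,5,6,7,3,2,1,4,3,5,8,7,3,2,1,4,3,2,5,4,3,7,3,2,1,0,8,7],
  [1,2,3,4,5,6,7,3,2,1,4,3,5,8,7,3,2,1,4,3,2,5,4,3,7,3,2,4,8,7,3],
  [1,2,3,4,5,6,7,3,2,1,4,3,5,8,7,3,2,1,4,3,2,5,4,7,3,2,1,4,5,8,7],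
  [1,2,3,4,5,6,7,3,2,1,4,5,8,7,3,2,1,4,3,2,5,4,7,3,2,1,4,5,8,7,3],
  [1,2,3,4,5,6,7,3,2,1,4,5,8,7,3,2,1,4,3,2,5,4,7,3,2,1,4,8,7,3,2],
  [1,2,3,4,5,6,7,3,2,1,4,3,2,5,4,7,8,7,3,2,1,4,3,2,5,4,7,3,2,4,8,7],
  [1,2,3,4,5,6,7,3,2,1,4,3,2,5,4,8,7,3,2,1,0,4,3,2,5,4,3,6,7,3,8,7],
  [1,2,3,4,5,6,7,3,2,1,4,3,2,5,4,8,7,3,2,1,0,4,3,2,5,4,3,7,3,2,8,7],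
  [1,2,3,4,5,6,7,3,2,1,4,3,2,5,4,8,7,3,2,1,0,4,3,2,5,4,3,7,3,4,8,7],
  [1,2,3,4,5,6,7,3,2,1,4,3,2,5,4,8,7,3,2,1,0,4,3,2,5,4,7,3,2,8,7,3],
  [1,2,3,4,5,6,7,3,2,1,4,3,2,5,4,8,7,3,2,1,0,4,3,2,5,4,7,3,4,8,7,3],
  [1,2,3,4,5,6,7,3,2,1,4,3,2,5,7,8,7,3,2,1,0,4,3,2,5,4,7,3,4,8,7,3],
  [1,2,3,4,5,6,7,3,2,1,4,3,2,5,8,7,3,2,1,0,4,3,2,5,4,7,3,4,8,7,3,2],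
  [1,2,3,4,5,6,7,3,2,1,4,3,2,5,8,7,3,2,1,4,3,2,5,4,6,7,3,4,5,8,7,3],
  [1,2,3,4,5,6,7,3,2,1,4,3,2,5,8,7,3,2,1,4,3,2,5,4,6,7,3,4,8,7,3,2],
  [1,2,3,4,5,6,7,3,2,1,4,3,2,5,8,7,3,2,1,4,3,2,5,4,7,3,2,4,5,6,8,7],
  [1,2,3,4,5,6,7,3,2,1,4,3,2,5,8,7,3,2,1,4,3,2,5,4,7,3,4,5,8,7,3,2],
  [1,2,3,4,5,6,7,3,2,1,4,3,2,5,8,7,3,2,1,4,3,2,5,4,7,3,4,8,7,3,2,1],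
  [1,2,3,4,5,6,7,3,2,1,4,3,5,8,7,3,2,1,4,3,2,5,4,7,3,2,1,4,5,8,7,3],
  [1,2,3,4,5,6,7,3,2,1,4,3,5,8,7,3,2,1,4,3,2,5,4,7,3,2,1,4,8,7,3,2],
  [1,2,3,4,5,6,7,3,2,1,4,3,2,5,4,7,8,7,3,2,1,4,3,2,5,4,7,3,2,4,8,7,3],
  [1,2,3,4,5,6,7,3,2,1,4,3,2,5,4,7,8,7,3,2,1,4,3,2,5,7,3,4,8,7,3,2,1],
  [1,2,3,4,5,6,7,3,2,1,4,3,2,5,4,8,7,3,2,1,0,4,3,2,5,4,3,7,3,2,8,7,3],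
  [1,2,3,4,5,6,7,3,2,1,4,3,2,5,4,8,7,3,2,1,0,4,3,2,5,4,3,7,3,4,8,7,3],
  [1,2,3,4,5,6,7,3,2,1,4,3,2,5,8,7,3,2,1,0,4,3,2,5,4,3,7,3,4,8,7,3,2],
  [1,2,3,4,5,6,7,3,2,1,4,3,2,5,8,7,3,2,1,0,4,3,2,5,4,7,3,2,4,8,7,3,2],
  [1,2,3,4,5,6,7,3,2,1,4,3,2,5,8,7,3,2,1,4,3,2,5,4,3,7,3,4,5,8,7,3,2],
  [1,2,3,4,5,6,7,3,2,1,4,3,2,5,8,7,3,2,1,4,3,2,5,4,3,7,3,4,8,7,3,2,1],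
  [1,2,3,4,5,6,7,3,2,1,4,3,2,5,8,7,3,2,1,4,3,2,5,4,7,3,2,4,5,6,8,7,3],
  [1,2,3,4,5,6,7,3,2,1,4,3,2,5,8,7,3,2,1,4,3,2,5,4,7,3,2,4,5,8,7,3,4],
  [1,2,3,4,5,6,7,3,2,1,4,3,5,8,7,3,2,1,4,3,2,5,4,3,7,3,2,1,4,8,7,3,2],
  [1,2,3,4,5,6,7,3,2,1,4,3,2,5,4,7,8,7,3,2,1,4,3,2,5,4,7,3,2,8,7,3,4,5]]

/-- classes of the fixed points -/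
def fixLab : List Nat := [1,1,1,1,0,0,0,0,2,2,2,2,2,2,2,2,0,0,0,0,1,1,2,1,2,1,0,0,0,0,1,2,1,2,1,2,1,1,2,1,0,0,1,2,1,0,0,1,2,1,0,0,2,1,0,1,2,1,2,1,0,2,1,2,0,0,0,2,2,1,0,1,2,2,1,2,2,1,0,1,0,0,0,1,0,0,1,1,2,2,2,1,0,2,2,1,0,0,0,2,1,2,0,1,2,2,2,1,2,0,1,0,2,1,0,0,2,0,1,0,2,1,1,2,0,1,0,2,1,2,0,1,2,2,0,0,0,2,1,1,2,0,1,0,2,0,1,2,0,2,1,2,2,2,0,1,1,0,1,2,2,0,2,1,0,1,0,0,0,0,1,1,1,1,1,2,0,1,2,0,2,1,2,1,1,1,1,2,0,2,2,2,1,1,0,0,0,0,2,1,2,0,1,0,0,0,0,0,1,1,0,2,1,2,0,0,2,2,2,2,2,2,2,2,1,1,0,2,2,2,1,1,2,2,2,2,2,2,1,0,1,0,1,2,1,2,1,2,1,0,0,0,0,0,1,1,0,0,0,0,0,0,1,2,0,0,0,0,0,2,1,0,1,1,0,2,0,0,1,1,1,1,2,1,0,1,1,1,1,2,2,2,1,1,0,1,2,1,2,1,1,0,2,0,0,2,0,1,2,1,1,1,1,2,2,2,1,1,2,1,1,2,1,1,1,1,1,2,2,2,2,1,1,0,0,0,0,0,0,0,0,0,0,0,0,0,0,0,2,1,2,2,2,2,2,2,2,2,2,0]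

/-- witnesses for the centraliser -/
def centWit : List (Nat × Nat) := [(0,0),(0,0),(0,0),(0,0),(0,0),(0,0),(1,1),(0,1),(0,0),(0,0),(0,0),(0,0),(0,0),(0,0),(0,0),(0,0),(1,1),(0,0),(0,0),(0,0),(0,0),(0,0),(0,0),(0,0),(0,0),(0,0),(1,1),(1,2),(0,1),(0,0),(0,0),(0,0),(0,0),(0,0),(0,0),(0,0),(0,0),(0,0),(0,0),(0,0),(0,0),(1,1),(0,0),(0,0),(0,0),(1,1),(0,0),(0,0),(0,0),(0,0),(0,1),(1,2),(0,0),(0,0),(0,0),(0,0),(0,0),(0,0),(0,0),(0,0),(0,0),(0,0),(0,0),(0,0),(0,0),(0,0),(0,1),(0,0),(0,0),(0,0),(0,0),(0,0),(0,0),(0,0),(0,0),(0,0),(0,0),(0,0),(0,0),(0,0),(0,0),(1,1),(0,0),(0,0),(0,0),(0,0),(0,0),(0,0),(0,0),(0,0),(0,0),(0,0),(0,1),(0,0),(0,0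),(0,0),(0,1),(1,1),(0,0),(0,0),(0,0),(0,0),(0,1),(0,0),(0,0),(0,0),(0,0),(0,0),(0,0),(1,1),(0,0),(1,2),(0,0),(0,0),(0,1),(0,0),(0,0),(0,1),(0,0),(0,1),(0,0),(0,0),(0,0),(0,0),(0,0),(0,0),(0,0),(0,0),(0,0),(0,0),(0,1),(0,0),(0,0),(0,0),(0,1),(0,0),(0,1),(0,0),(0,0),(0,0),(0,0),(0,0),(0,0),(0,0),(0,0),(0,1),(0,0),(0,0),(0,0),(0,0),(0,0),(0,0),(0,0),(0,0),(0,1),(0,0),(0,0),(1,1),(0,0),(0,0),(0,0),(0,0),(0,0),(0,0),(0,0),(0,0),(1,3),(0,1),(0,0),(0,0),(0,0),(0,0),(0,0),(0,0),(0,0),(0,0),(0,0),(0,0),(0,0),(1,1),(0,0),(0,0),(0,0),(0,0),(0,0),(0,0),(0,0),(0,0),(1,3),(0,0),(0,0),(0,0),(0,0),(0,0),(0,1),(0,0),(0,0),(0,1),(0,0),(0,0),(0,0),(0,1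),(0,0),(0,0),(0,0),(0,0),(0,0),(0,0),(0,0),(0,0),(0,1),(0,0),(0,0),(0,0),(1,2),(0,0),(0,0),(0,0),(0,0),(0,0),(0,0),(0,0),(0,0),(0,0),(0,0),(0,0),(0,1),(0,0),(0,0),(0,0),(0,0),(0,0),(0,0),(0,0),(0,0),(0,0),(0,0),(0,0),(0,0),(0,0),(0,0),(1,2),(0,0),(0,0),(0,0),(0,0),(0,0),(0,0),(0,0),(1,1),(0,0),(1,2),(1,3),(1,1),(0,0),(0,0),(0,0),(1,2),(0,1),(1,1),(0,0),(0,1),(0,0),(0,0),(0,1),(0,0),(1,3),(1,2),(1,1),(0,0),(0,0),(0,0),(0,0),(0,0),(0,0),(0,0),(0,1),(0,1),(0,0),(0,0),(0,0),(0,0),(0,0),(0,0),(1,2),(0,0),(0,0),(0,0),(0,0),(0,0),(0,0),(0,0),(0,0),(0,0),(0,0),(0,0),(0,0),(0,0),(0,0),(0,0),(0,0),(0,0),(0,0),(0,1),(0,0),(0,0),(0,1),(0,0),(0,0),(0,0),(0,0),(0,0),(0,0),(0,0),(0,0),(0,0),(0,0),(0,0),(0,0),(0,0),(0,0),(0,0),(0,0),(0,0),(0,0),(0,0),(0,0),(0,0),(0,0),(0,0),(0,0),(0,0),(0,0),(1,3),(0,0),(0,1),(1,1),(0,0),(0,1),(0,0),(0,0),(0,0),(1,2),(0,0),(0,1),(1,1),(0,0),(0,0),(0,0),(0,0),(0,0),(0,0),(0,0),(0,0),(0,0),(0,0),(0,0),(0,0),(0,0),(0,1)]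

/-- paths to the points fixed by the second involution -/
def fixAPaths : List (List Nat) := [[1,0,2,1,3,2],
  [1,0,2,1,3,4],
  [1,0,2,3,4,5],
  [1,2,3,4,5,6],
  [1,0,2,1,3,2,7,3,8,7],
  [1,0,2,1,3,4,7,3,8,7],
  [1,0,2,3,4,5,7,3,8,7],
  [1,2,3,4,5,6,7,3,8,7],
  [1,0,2,3,4,5,7,3,2,4,8,7],
  [1,2,3,4,5,6,7,3,2,4,8,7],
  [1,0,2,3,4,5,7,3,2,4,8,7,3],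
  [1,2,3,4,5,6,7,3,2,4,8,7,3],
  [1,2,3,4,5,6,7,3,2,1,4,5,8,7],
  [1,0,2,3,4,5,7,3,2,4,8,7,3,2,4],
  [1,2,3,4,5,6,7,3,2,1,4,5,8,7,3],
  [1,2,3,4,5,6,7,3,2,4,8,7,3,2,4],
  [1,0,2,3,4,5,7,3,2,4,8,7,3,2,1,4,5],
  [1,2,3,4,5,6,7,3,2,1,4,5,8,7,3,2,4],
  [1,2,3,4,5,6,7,3,2,4,8,7,3,2,1,4,5],
  [1,2,3,4,5,6,7,3,2,1,4,3,2,5,4,3,8,7],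
  [1,2,3,4,5,6,7,3,2,1,4,5,8,7,3,2,4,3],
  [1,0,2,3,4,5,7,3,2,4,8,7,3,2,1,0,4,5,6],
  [1,2,3,4,5,6,7,3,2,1,4,3,2,5,4,3,8,7,3],
  [1,2,3,4,5,6,7,3,2,1,4,5,8,7,3,2,1,4,5],
  [1,2,3,4,5,6,7,3,2,4,8,7,3,2,1,0,4,5,6],
  [1,2,3,4,5,6,7,3,2,1,4,5,8,7,3,2,1,4,3,5],
  [1,2,3,4,5,6,7,3,2,1,4,3,2,5,4,3,8,7,3,2,4],
  [1,2,3,4,5,6,7,3,2,1,4,5,8,7,3,2,1,0,4,5,6],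
  [1,2,3,4,5,6,7,3,2,1,4,3,2,5,4,3,8,7,3,2,4,3],
  [1,2,3,4,5,6,7,3,2,1,4,5,8,7,3,2,1,0,4,3,5,6],
  [1,2,3,4,5,6,7,3,2,1,4,5,8,7,3,2,1,4,3,2,5,4],
  [1,2,3,4,5,6,7,3,2,1,4,3,2,5,4,3,8,7,3,2,1,4,5],
  [1,2,3,4,5,6,7,3,2,1,4,3,2,5,4,3,8,7,3,2,1,4,3,5],
  [1,2,3,4,5,6,7,3,2,1,4,5,8,7,3,2,1,0,4,3,2,5,4,6],
  [1,2,3,4,5,6,7,3,2,1,4,3,2,5,4,3,8,7,3,2,1,0,4,5,6],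
  [1,2,3,4,5,6,7,3,2,1,4,3,2,5,4,3,8,7,3,2,1,0,4,3,2,1],
  [1,2,3,4,5,6,7,3,2,1,4,3,2,5,4,3,8,7,3,2,1,0,4,3,2,5],
  [1,2,3,4,5,6,7,3,2,1,4,3,2,5,4,3,8,7,3,2,1,0,4,3,5,4],
  [1,2,3,4,5,6,7,3,2,1,4,3,2,5,4,3,8,7,3,2,1,0,4,3,5,6],
  [1,2,3,4,5,6,7,3,2,1,4,3,2,5,7,3,8,7,3,2,1,0,4,3,2,1],
  [1,2,3,4,5,6,7,3,2,1,4,5,8,7,3,2,1,4,3,2,5,4,7,3,8,7],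
  [1,2,3,4,5,6,7,3,2,1,4,5,8,7,3,2,1,0,4,3,2,5,4,6,7,3,8,7],
  [1,2,3,4,5,6,7,3,2,1,4,5,8,7,3,2,1,4,3,2,5,4,7,3,2,4,8,7],
  [1,2,3,4,5,6,7,3,2,1,4,5,8,7,3,2,1,4,3,2,5,4,7,3,2,4,8,7,3],
  [1,2,3,4,5,6,7,3,2,1,4,3,2,5,4,3,8,7,3,2,1,0,4,3,2,1,7,3,8,7],
  [1,2,3,4,5,6,7,3,2,1,4,3,2,5,4,3,8,7,3,2,1,0,4,3,2,5,7,3,8,7],
  [1,2,3,4,5,6,7,3,2,1,4,3,2,5,4,3,8,7,3,2,1,0,4,3,5,4,7,3,8,7],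
  [1,2,3,4,5,6,7,3,2,1,4,3,2,5,4,8,7,3,2,1,0,4,3,2,5,7,3,4,8,7],
  [1,2,3,4,5,6,7,3,2,1,4,3,2,5,4,8,7,3,2,1,0,4,3,5,4,7,3,2,8,7],
  [1,2,3,4,5,6,7,3,2,1,4,3,2,5,7,3,8,7,3,2,1,0,4,3,2,1,7,3,8,7],
  [1,2,3,4,5,6,7,3,2,1,4,3,2,5,7,8,7,3,2,1,0,4,3,2,5,7,3,4,8,7],
  [1,2,3,4,5,6,7,3,2,1,4,3,2,5,8,7,3,2,1,4,3,2,5,6,7,3,4,5,8,7],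
  [1,2,3,4,5,6,7,3,2,1,4,5,8,7,3,2,1,4,3,2,5,4,7,3,2,1,4,5,8,7],
  [1,2,3,4,5,6,7,3,2,1,4,3,2,5,4,8,7,3,2,1,0,4,3,2,5,7,3,4,8,7,3],
  [1,2,3,4,5,6,7,3,2,1,4,3,2,5,4,8,7,3,2,1,0,4,3,5,4,7,3,2,8,7,3],
  [1,2,3,4,5,6,7,3,2,1,4,3,2,5,7,8,7,3,2,1,0,4,3,2,5,7,3,4,8,7,3],
  [1,2,3,4,5,6,7,3,2,1,4,3,2,5,8,7,3,2,1,0,4,3,2,5,7,3,4,8,7,3,2],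
  [1,2,3,4,5,6,7,3,2,1,4,3,2,5,8,7,3,2,1,4,3,2,5,6,7,3,4,5,8,7,3],
  [1,2,3,4,5,6,7,3,2,1,4,3,2,5,8,7,3,2,1,4,3,2,5,6,7,3,4,8,7,3,2],
  [1,2,3,4,5,6,7,3,2,1,4,3,2,5,8,7,3,2,1,4,3,2,5,7,3,4,5,8,7,3,2],
  [1,2,3,4,5,6,7,3,2,1,4,3,2,5,8,7,3,2,1,4,3,2,5,7,3,4,8,7,3,2,1],
  [1,2,3,4,5,6,7,3,2,1,4,5,8,7,3,2,1,4,3,2,5,4,7,3,2,1,4,5,8,7,3],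
  [1,2,3,4,5,6,7,3,2,1,4,5,8,7,3,2,1,4,3,2,5,4,7,3,2,1,4,8,7,3,2],
  [1,2,3,4,5,6,7,3,2,1,4,3,2,5,4,7,8,7,3,2,1,4,3,2,5,7,3,4,8,7,3,2,1]]

/-- witnesses of uniqueness -/
def fixAWit : List Nat := [8,6,5,5,0,2,1,1,0,0,0,0,0,1,0,1,2,0,1,0,0,2,0,0,1,0,0,0,0,0,1,0,0,1,0,6,5,5,0,2,1,1,0,0,2,1,1,0,0,2,0,0,0,0,0,0,1,0,1,1,2,0,1,2]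

/-- representatives of the three classes, as positions in the list -/
def classPts : List Nat := [4,0,8]

/-- a transposition of the second class -/
def otherPath : List Nat := [1,0,2,1,3,2]

end Cfsg.Agent.H50.M22Outer
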